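import Cfsg.Agent.Lib.Sporadic.OutCert.Slp
import Cfsg.Agent.Lib.Sporadic.OutCert.OrbitBound

/-!
Data for the centraliser of an involution of the McLaughlin group acting on eight letters.
-/

set_option autoImplicit false

namespace CfsgLib.Sporadic.OutCert.McL

/-- The fixed points of the involution. -/
def fixB : List ℕ := [1, 3, 7, 22, 29, 36, 37, 44, 47, 48, 84, 101, 129, 132, 143, 147, 148, 151, 168, 169, 173, 175, 184, 194, 198, 208, 210, 211, 223, 226, 235, 239, 260, 266, 271]

/-- For each fixed point, the half containing `0` of its bisection of eight letters. -/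
def bisOf : List (List (Fin 8)) := [[0, 1, 5, 6], [0, 3, 5, 7], [0, 3, 4, 6], [0, 1, 2, 3], [0, 1, 4, 7], [0, 1, 2, 5], [0, 2, 6, 7], [0, 3, 4, 5], [0, 2, 4, 7], [0, 1, 3, 7], [0, 2, 4, 5], [0, 2, 3, 6], [0, 1, 4, 6], [0, 5, 6, 7], [0, 1, 6, 7], [0, 2, 3, 7], [0, 1, 3, 4], [0, 4, 5, 7], [0, 3, 5, 6], [0, 2, 4, 6], [0, 4, 6, 7], [0, 2, 5, 6], [0, 1, 2, 4], [0, 2, 5, 7], [0, 1, 4, 5], [0, 3, 6, 7], [0, 1, 2, 6], [0, 2, 3, 4], [0, 1, 5, 7], [0, 1, 3, 6], [0, 4, 5, 6], [0, 2, 3, 5], [0, 1, 2, 7], [0, 1, 3, 5], [0, 3, 4, 7]]

/-- The generators of the centraliser acting on eight letters, with their inverses. -/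
def eightTab : List (ℕ × ℕ) := [(571823, 571823), (7949249, 5885761), (7434049, 7434049), (13989640, 10430280), (4364731, 2798054), (3525767, 1002169), (3851911, 1754809)]

/-- Steps to elements fixing letters. -/
def eightSlp : List (ℕ × Bool × ℕ × ℕ) := [(13977208, false, 5, 1), (4667719, false, 0, 7), (13965063, false, 6, 3), (14899339, false, 1, 8), (1754809, false, 6, 6), (1394295, false, 7, 11), (14435162, false, 4, 8), (9092993, false, 2, 3), (15231321, false, 5, 0), (7738808, false, 9, 1), (7734671, false, 6, 16), (14553434, false, 17, 4), (3620372, false, 14, 12), (4112787, false, 13, 1), (16359756, false, 19, 16), (15373876, false, 4, 20), (13501103, false, 1, 18), (13562388, false, 4, 4), (12730186, false, 24, 15), (2951613, false, 23, 1), (7692601, false, 16, 21), (6565734, false, 22, 2), (10842356, false, 23, 26), (1628627, false, 0, 22), (11435088, false, 12, 23), (8016911, false, 31, 24), (13125455, false, 25, 10), (12941061, false, 10, 29), (3133718, false, 34, 23), (16304834, false, 32, 30), (6851005, false, 36, 4), (8167782, false, 11, 28), (10946236,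 false, 27, 25), (1734229, false, 30, 21), (13619466, false, 35, 11), (5181197, false, 33, 41), (16195683, false, 38, 33), (7061614, false, 39, 37), (5773789, false, 36, 30), (12065235, false, 45, 11), (7632268, false, 42, 25), (15491924, false, 23, 40), (13899732, false, 33, 22), (10866576, false, 48, 42), (14522389, false, 46, 33), (11329703, false, 42, 30), (11636926, false, 31, 43), (10858288, false, 52, 43), (443807, false, 47, 39), (10089485, false, 10, 47), (695772, false, 53, 44), (1890714, false, 55, 10), (6799702, false, 52, 49), (14424298, false, 57, 44), (13337324, false, 60, 10), (7818818, false, 33, 44), (8926127, false, 44, 56), (15894158, false, 63, 58), (10296006, false, 45, 44), (12127948, false, 62, 49), (1428665, false, 59, 44), (8114274, false, 23, 60), (4581948, false, 44, 61), (14453523, false, 50, 42), (6052956, false, 68, 67), (5524575, false, 71, 64), (12863445, false, 49, 64), (15305073, false, 72, 58), (7999145, false, 74, 50), (15051680, false, 70, 49), (3016062, false, 74, 67), (3433948, false, 54, 60), (11732945, false, 77, 72), (8342145,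 false, 73, 44), (12764815, false, 67, 80), (4389980, false, 80, 69), (9243983, false, 80, 65), (13355545, false, 78, 83), (4410987, false, 84, 84), (347389, false, 84, 85), (2901367, false, 84, 86), (7651798, false, 84, 87), (12954151, false, 81, 76), (4142432, false, 86, 89), (8891288, false, 90, 90), (7396816, false, 90, 91), (5140072, false, 90, 92), (11137840, false, 90, 93), (13207677, false, 75, 84), (7698824, false, 87, 95), (3067064, false, 96, 90), (16405144, false, 60, 51), (11255048, false, 94, 98), (8469118, false, 99, 85), (15918280, false, 99, 99), (4041254, false, 89, 81), (2226518, true, 100, 0), (4609976, false, 103, 102), (6184136, false, 97, 104), (8345736, false, 101, 105), (10042312, false, 106, 96), (9431688, false, 106, 106), (11664520, false, 106, 108), (14040712, false, 106, 109), (7429240, false, 66, 82), (13719496, false, 97, 111), (5896520, true, 107, 0), (14596232, false, 113, 112), (12220040, false, 110, 114), (1244299, false, 72, 79), (13679568, false, 88, 116), (8059016, false, 93, 117), (16148104, false, 110, 118), (15947400, true,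 119, 0), (12535432, false, 115, 120)]

/-- Letters, the positions of their elements and the orbits. -/
def eightLevels : List (ℕ × List ℕ × List (ℕ × ℕ × ℕ)) := [(0, [84, 90, 96, 99, 106, 115, 119, 121], [(1, 0, 0), (3, 1, 0), (4, 1, 1), (5, 3, 0), (2, 3, 1), (6, 3, 3), (7, 4, 2)]), (1, [90, 96, 99, 106, 115, 119, 121], [(4, 1, 0), (3, 4, 0), (7, 4, 1), (5, 4, 3), (6, 4, 5), (2, 3, 0)]), (2, [96, 99, 106, 115, 119, 121], [(6, 2, 0), (4, 2, 1), (5, 6, 0), (7, 6, 2), (3, 4, 1)]), (3, [106, 115, 119, 121], [(4, 3, 0), (5, 4, 0), (7, 4, 1), (6, 4, 2)]), (4, [115, 119, 121], [(7, 4, 0), (6, 4, 1), (5, 7, 0)])]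

/-- An element of order four with square the involution. -/
def kFour : ℕ := 0x3f4cc60879fcfc4f3e4109c752b1c8850a31154e6592d99e0ac5761e1008c64190fb1118be21b014798600bd6320d3ab9552d9885081b09cb0c0b22976de2f1b0522e04b2c6c6f6980d6aaf0417c225157214bb0e0dbadfca57a389e2bc7815d56e8849e980a945c21320d389b8a6d1682183a5a7dc1d702571bc9c29e7023604dc83269feed3ba2160524b9a4da0700b2924a1779e620a685a813ea40f35922654106502187bb04e8b70d1a0ec63098cdcc175fa24240a140b4404d15014e0267e30d08370aa9cb8a23583c0c32749ed38270a39d205435070045851b7444b37b2c878d95f3347acc7cc4936d42336d9e874ab25304825ad0162b473b98e2417b5c942c073387040722e9503000368683b061255a3979ab1d4437ab7df447209307e351f085aa2302259b0454a0e9621069111261f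

end CfsgLib.Sporadic.OutCert.McL
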