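import Cfsg.Agent.Lib.Sporadic.OutCert.McL.Classes
import Cfsg.Agent.Lib.Sporadic.OutCert.McL.DataCent
import Cfsg.Prelude.Def_SporadicB

/-!
The centraliser of an involution of the McLaughlin group is a non-split double cover of the alternating
group of degree 8: it acts on the 35 fixed points as that group on its bisections of eight letters.
-/

set_option autoImplicit false
set_option maxRecDepth 10000

namespace CfsgLib.Sporadic.OutCert.McL

open Cfsg

/-- The words of the generators of the centraliser. -/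
def centW : List (List Bool) := [s20W, s21W, s22W, c5W, c7W, e3W, f3W]

/-- The half containing `0` of an image bisection. -/
def normBis (s : Finset (Fin 8)) : Finset (Fin 8) := if (0 : Fin 8) ∈ s then s else sᶜ

/-- The bisections of eight letters, as their halves containing `0`. -/
abbrev T8 : Type := {s : Finset (Fin 8) // s.card = 4 ∧ (0 : Fin 8) ∈ s}

/-- The bisection of a fixed point. -/
def bisSet (i : Fin 35) : Finset (Fin 8) := (bisOf.getD i []).toFinset

/-- One generator moves the fixed points as its permutation of letters moves the bisections. -/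
noncomputable def bisK (k : ℕ) (i : Fin 35) : Bool :=
  decide (∃ j : Fin 35, lk 9 (wk (centW.getD k [])) (fixB.getD i 0) = fixB.getD j 0 ∧
    normBis ((bisSet i).image fun x : Fin 8 => (⟨lk 3 (eightTab.getD k (0, 0)).1 x % 8,
      Nat.mod_lt _ (by norm_num)⟩ : Fin 8)) = bisSet j)

theorem fix_facts : ((List.range 275).all fun x => (lk 9 kb x == x) == fixB.contains x) = true ∧
    fixB.length = 35 ∧ fixB.Nodup ∧ (fixB.all fun x => Nat.blt x 275) = true := by decide +kernel

theorem bis_facts : (∀ i : Fin 35, (bisSet i).card = 4 ∧ (0 : Fin 8) ∈ bisSet i) ∧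
    Function.Injective bisSet ∧ Fintype.card T8 = 35 := by decide +kernel

theorem eight_valid : (eightTab.all fun g => validK 3 8 g.1 g.2) = true ∧ eightTab.length = 7 ∧
    slpCheck 3 8 (eightTab.map Prod.fst) eightSlp = true ∧
    (eightLevels.all fun L => L.2.1.all fun i => Nat.blt i (7 + eightSlp.length)) = true := by decide +kernel

/-- The levels with the elements filled in. -/
def eightLv : List Level :=
  eightLevels.map fun L => ⟨L.1, L.2.1.map (slpVal (eightTab.map Prod.fst) eightSlp), L.2.2⟩

theorem eight_levels : levelsK 3 8 eightLv = true ∧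
    (eightLv.map fun L => L.orb.length + 1).prod = 6720 := by decide +kernel

theorem bis_moves : ∀ k : Fin 7, ∀ i : Fin 35, bisK k i = true := by decide +kernel

theorem four_ok : twoTree.has kFour = true ∧ twoTree.has kb = true ∧ compK 9 275 kFour kFour = kb ∧
    compK 9 275 kb (oneK 9 275) = kb := by
  decide +kernel

attribute [local irreducible] lk pkF allF compK ka kai kb gTab twoTree fixB bisOf eightTab eightSlp eightLevels kFour

/-- The centraliser of the involution. -/
noncomputable abbrev C0 : Subgroup H := Subgroup.centralizer ({hB} : Set H)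

theorem card_C0 : Nat.card C0 ∣ 40320 ∧ 40320 ∣ Nat.card C0 := by
  classical
  refine ⟨?_, cent_dvd⟩
  have hge : 22275 ≤ C0.index := by
    have hinjD : ∀ i n i' n', i < 11 → n < 2025 → i' < 11 → n' < 2025 →
        hA ^ i * repEl n * (hA ^ i)⁻¹ = hA ^ i' * repEl n' * (hA ^ i')⁻¹ → i = i' ∧ n = n' := by
      intro i n i' n' hi hn hi' hn' e
      have e' : proj i n = proj i' n' := by
        rw [proj_spec hi hn, proj_spec hi' hn']
        exact congrArg (fun z : H => projP (z : P)) e
      have look : ∀ i n, i < 11 → n < 2025 → ∃ d, projTree.get (proj i n) = some (i, n, d) := by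
        intro i n hi hn
        obtain ⟨p, q, d, hc⟩ := Tree.sound_of_has proj_ok (allF_iff.1 reps_has n hn)
        have h := allF_iff.1 hc i hi
        cases hget : projTree.get (proj i n) with
        | none => simp [hget] at h
        | some v =>
          simp only [hget, Bool.and_eq_true, Nat.beq_eq] at h
          exact ⟨v.2.2, by obtain ⟨rfl, rfl⟩ := h; rfl⟩
      obtain ⟨d, hd⟩ := look i n hi hn
      obtain ⟨d', hd'⟩ := look i' n' hi' hn'
      rw [e', hd', Option.some.injEq, Prod.mk.injEq, Prod.mk.injEq] at hd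
      exact ⟨hd.1.symm, hd.2.1.symm⟩
    have mem : ∀ p : Fin 11 × Fin 2025, IsConj hB (hA ^ (p.1 : ℕ) * repEl p.2 * (hA ^ (p.1 : ℕ))⁻¹) := fun p =>
      (repEl_spec p.2.2).2.trans (isConj_iff.2 ⟨_, rfl⟩)
    let f : Fin 11 × Fin 2025 → H ⧸ C0 := fun p => ((isConj_iff.1 (mem p)).choose : H)
    have hf : Function.Injective f := by
      intro p q e
      obtain ⟨c, hc⟩ : ∃ c ∈ C0, (isConj_iff.1 (mem p)).choose * c = (isConj_iff.1 (mem q)).choose :=
        ⟨_, QuotientGroup.eq.1 e, mul_inv_cancel_left _ _⟩
      have hq := (isConj_iff.1 (mem q)).choose_spec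
      have hp := (isConj_iff.1 (mem p)).choose_spec
      have := hinjD p.1 p.2 q.1 q.2 p.1.2 p.2.2 q.1.2 q.2.2 (by
        rw [← hp, ← hq, ← hc.2]
        have hcc := Subgroup.mem_centralizer_singleton_iff.1 hc.1
        rw [mul_assoc _ c hB, hcc]
        group)
      exact Prod.ext (Fin.ext this.1) (Fin.ext this.2)
    have := Nat.card_le_card_of_injective f hf
    rwa [Nat.card_prod, Nat.card_fin, Nat.card_fin] at this
  have hm := C0.card_mul_index
  rw [H_spec.2] at hm
  obtain ⟨c, hc⟩ := cent_dvd
  rw [show Nat.card C0 = 40320 * c from hc] at hm ⊢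
  rcases c with _ | _ | c
  · omega
  · exact dvd_rfl
  · nlinarith

theorem centW_comm {k : ℕ} (hk : k < 7) : (⟨wp (centW.getD k []), wp_mem _⟩ : H) ∈ C0 := by
  have hmem : wk (centW.getD k []) ∈ twoGens ++ [wk c5W, wk c7W, wk e3W, wk f3W] := by
    match k, hk with
    | 0, _ | 1, _ | 2, _ | 3, _ | 4, _ | 5, _ | 6, _ => simp [centW, twoGens]
  obtain ⟨-, -, -, -, -, -, -, -, -, -, -, a12⟩ := cent_elems
  have h := beq_iff_eq.1 (List.all_eq_true.1 a12 _ hmem)
  have h1 := rep_comp hw (rep_wp (centW.getD k [])) rep_B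
  rw [h] at h1
  rw [Subgroup.mem_centralizer_singleton_iff]
  exact Subtype.ext (h1.inj (rep_comp hw rep_B (rep_wp _)))

/-- A generator in the centraliser. -/
noncomputable def cgen (k : Fin 7) : C0 := ⟨_, centW_comm k.2⟩

/-- The fixed points. -/
noncomputable def ptB (i : Fin 35) : {x : Fin 275 // pB x = x} :=
  ⟨⟨fixB.getD i 0, by
    rw [List.getD_eq_getElem _ _ (by rw [fix_facts.2.1]; exact i.2)]
    simpa [Nat.blt_eq] using List.all_eq_true.1 fix_facts.2.2.2 _ (List.getElem_mem _)⟩, by
    have hlt : (i : ℕ) < fixB.length := by rw [fix_facts.2.1]; exact i.2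
    have hb : fixB.getD i 0 < 275 := by
      rw [List.getD_eq_getElem _ _ hlt]
      simpa [Nat.blt_eq] using List.all_eq_true.1 fix_facts.2.2.2 _ (List.getElem_mem _)
    have h := List.all_eq_true.1 fix_facts.1 (fixB.getD i 0) (List.mem_range.2 hb)
    have hc : fixB.contains (fixB.getD i 0) = true := by
      rw [List.contains_iff_mem, List.getD_eq_getElem _ _ hlt]
      exact List.getElem_mem _
    rw [hc, beq_iff_eq, beq_iff_eq] at h
    exact Fin.ext ((rep_B _).symm.trans h)⟩

theorem ptB_bijective : Function.Bijective ptB := by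
  constructor
  · intro i j e
    have e' : fixB.getD i 0 = fixB.getD j 0 := congrArg (fun x : {x : Fin 275 // pB x = x} => (x.1 : ℕ)) e
    have hi : (i : ℕ) < fixB.length := by rw [fix_facts.2.1]; exact i.2
    have hj : (j : ℕ) < fixB.length := by rw [fix_facts.2.1]; exact j.2
    rw [List.getD_eq_getElem _ _ hi, List.getD_eq_getElem _ _ hj] at e'
    exact Fin.ext ((fix_facts.2.2.1.getElem_inj_iff).1 e')
  · rintro ⟨x, hx⟩
    have h := List.all_eq_true.1 fix_facts.1 x (List.mem_range.2 x.2)
    have hx' : (lk 9 kb x == (x : ℕ)) = true := by rw [beq_iff_eq, rep_B x, hx]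
    rw [hx', beq_iff_eq] at h
    obtain ⟨i, hi, e⟩ := List.getElem_of_mem (List.contains_iff_mem.1 h.symm)
    refine ⟨⟨i, by rw [← fix_facts.2.1]; exact hi⟩, Subtype.ext (Fin.ext ?_)⟩
    show fixB.getD i 0 = _
    rw [List.getD_eq_getElem _ _ hi, e]

theorem cent_fix (c : C0) (x : {x : Fin 275 // pB x = x}) : pB (((c : H) : P) x) = ((c : H) : P) x := by
  have h : (c : H) * hB = hB * (c : H) := Subgroup.mem_centralizer_singleton_iff.1 c.2
  have h' := DFunLike.congr_fun (congrArg Subtype.val h) (x : Fin 275)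
  simp only [Subgroup.coe_mul, Equiv.Perm.mul_apply] at h'
  rw [show ((hB : H) : P) = pB from rfl, x.2] at h'
  exact h'.symm

/-- The action on the fixed points. -/
noncomputable def rho : C0 →* Equiv.Perm (Fin 35) :=
  (Equiv.ofBijective ptB ptB_bijective).symm.permCongrHom.toMonoidHom.comp
    (MonoidHom.mk' (fun c =>
      { toFun := fun x => ⟨((c : H) : P) x, cent_fix c x⟩
        invFun := fun x => ⟨(((c⁻¹ : C0) : H) : P) x, cent_fix c⁻¹ x⟩
        left_inv := fun x => Subtype.ext (by simp)
        right_inv := fun x => Subtype.ext (by simp) })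
      fun c d => Equiv.ext fun x => Subtype.ext (by simp))

theorem rho_apply (c : C0) (i : Fin 35) :
    ((ptB (rho c i)).1 : Fin 275) = ((c : H) : P) (ptB i).1 := by
  show (((Equiv.ofBijective ptB ptB_bijective) ((Equiv.ofBijective ptB ptB_bijective).symm _)) : Fin 275) = _
  rw [Equiv.apply_symm_apply]
  rfl

/-- Moving a bisection. -/
def moveBis (σ : Equiv.Perm (Fin 8)) (s : T8) : T8 :=
  ⟨normBis (s.1.image σ), by
    have hc : (s.1.image σ).card = 4 := by rw [Finset.card_image_of_injective _ σ.injective, s.2.1]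
    rw [normBis]
    by_cases h : (0 : Fin 8) ∈ s.1.image σ
    · rw [if_pos h]; exact ⟨hc, h⟩
    · rw [if_neg h, Finset.card_compl, hc, Finset.mem_compl]; exact ⟨rfl, h⟩⟩

theorem normBis_image (σ : Equiv.Perm (Fin 8)) (s : Finset (Fin 8)) :
    normBis ((normBis s).image σ) = normBis (s.image σ) := by
  by_cases h : (0 : Fin 8) ∈ s
  · rw [show normBis s = s from if_pos h]
  rw [show normBis s = sᶜ from if_neg h]
  have e : sᶜ.image σ = (s.image σ)ᶜ := by
    ext x
    simp [Finset.mem_image]
    exact ⟨fun ⟨a, ha, hax⟩ b hb hbx => ha (σ.injective (hax.trans hbx.symm) ▸ hb),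
      fun hx => ⟨σ.symm x, fun hm => hx _ hm (σ.apply_symm_apply x), σ.apply_symm_apply x⟩⟩
  rw [e]
  simp only [normBis]
  by_cases h' : (0 : Fin 8) ∈ s.image σ
  · rw [if_neg (by simpa using h'), if_pos h', compl_compl]
  · rw [if_pos (by simpa using h'), if_neg h']

/-- The fixed points number the bisections. -/
noncomputable def bisEquiv : Fin 35 ≃ T8 :=
  Equiv.ofBijective (fun i : Fin 35 => (⟨bisSet i, bis_facts.1 i⟩ : T8))
    ((Fintype.bijective_iff_injective_and_card _).2
      ⟨fun _ _ e => bis_facts.2.1 (congrArg Subtype.val e), by rw [Fintype.card_fin, bis_facts.2.2]⟩)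

/-- The action of the permutations of letters on the bisections, numbered by the fixed points. -/
noncomputable def bisHom : Equiv.Perm (Fin 8) →* Equiv.Perm (Fin 35) :=
  bisEquiv.symm.permCongrHom.toMonoidHom.comp
    (MonoidHom.mk' (fun σ =>
      { toFun := moveBis σ
        invFun := moveBis σ⁻¹
        left_inv := fun s => Subtype.ext (by
          show normBis ((normBis (s.1.image σ)).image ⇑σ⁻¹) = s.1
          rw [normBis_image, Finset.image_image, normBis]
          simp [Equiv.Perm.inv_def, s.2.2])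
        right_inv := fun s => Subtype.ext (by
          show normBis ((normBis (s.1.image ⇑σ⁻¹)).image σ) = s.1
          rw [normBis_image, Finset.image_image, normBis]
          simp [Equiv.Perm.inv_def, s.2.2]) })
      fun σ τ => Equiv.ext fun s => Subtype.ext (by
        show normBis (s.1.image ⇑(σ * τ)) = normBis ((normBis (s.1.image τ)).image σ)
        rw [normBis_image, Finset.image_image]
        rfl))

theorem bisSet_bisHom (σ : Equiv.Perm (Fin 8)) (i : Fin 35) :
    bisSet (bisHom σ i) = normBis ((bisSet i).image σ) := by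
  exact congrArg Subtype.val (bisEquiv.apply_symm_apply (moveBis σ (bisEquiv i)))

/-- A generator on eight letters. -/
noncomputable def sgen (k : Fin 7) : Equiv.Perm (Fin 8) :=
  permOf (eightTab.getD k (0, 0)).1 (eightTab.getD k (0, 0)).2 (by
    rw [List.getD_eq_getElem _ _ (by rw [eight_valid.2.1]; exact k.2)]
    exact List.all_eq_true.1 eight_valid.1 _ (List.getElem_mem _))

theorem rep_sgen (k : Fin 7) : Rep 3 8 (eightTab.getD k (0, 0)).1 (sgen k) := rep_permOf _

theorem rho_cgen (k : Fin 7) : rho (cgen k) = bisHom (sgen k) := by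
  refine Equiv.ext fun i => ?_
  have h := bis_moves k i
  simp only [bisK, decide_eq_true_eq] at h
  obtain ⟨j, hj, hj'⟩ := h
  have e1 : rho (cgen k) i = j := by
    refine ptB_bijective.1 (Subtype.ext (Fin.ext ?_))
    rw [rho_apply]
    exact ((rep_wp _ (ptB i).1).symm.trans hj)
  have e2 : bisHom (sgen k) i = j := by
    refine bis_facts.2.1 ?_
    rw [bisSet_bisHom, ← hj']
    congr 1
    refine Finset.image_congr fun x _ => Fin.ext ?_
    show (sgen k x : ℕ) = lk 3 _ x % 8
    rw [rep_sgen k x, Nat.mod_eq_of_lt (sgen k x).2]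
  rw [e1, e2]

/-- The subgroup generated by the seven elements. -/
noncomputable def K0 : Subgroup C0 := Subgroup.closure (Set.range cgen)

/-- The subgroup of permutations of eight letters generated by the seven. -/
noncomputable def S0 : Subgroup (Equiv.Perm (Fin 8)) := Subgroup.closure (Set.range sgen)

theorem map_K0 : K0.map rho = S0.map bisHom := by
  rw [K0, S0, MonoidHom.map_closure, MonoidHom.map_closure, ← Set.range_comp, ← Set.range_comp,
    show ⇑rho ∘ cgen = ⇑bisHom ∘ sgen from funext rho_cgen]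

theorem sgen_sign (k : Fin 7) : Equiv.Perm.sign (sgen k) = 1 := by
  revert k
  decide +kernel

theorem S0_eq : S0 = alternatingGroup (Fin 8) := by
  have hle : S0 ≤ alternatingGroup (Fin 8) := by
    refine (Subgroup.closure_le _).2 ?_
    rintro _ ⟨k, rfl⟩
    exact Equiv.Perm.mem_alternatingGroup.2 (sgen_sign k)
  refine Subgroup.eq_of_le_of_card_ge hle ?_
  have h8 : Nat.card (alternatingGroup (Fin 8)) = 20160 := by
    rw [nat_card_alternatingGroup, Nat.card_fin]; rfl
  have hlen : (eightTab.map Prod.fst).length = 7 := by rw [List.length_map, eight_valid.2.1]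
  have hs := slp_sound (S := S0) (by norm_num) eight_valid.2.2.1 fun i hi => by
    rw [hlen] at hi
    refine ⟨sgen ⟨i, hi⟩, Subgroup.subset_closure ⟨_, rfl⟩, ?_⟩
    rw [List.getD_eq_getElem _ _ (by rw [hlen]; exact hi), List.getElem_map,
      ← List.getD_eq_getElem _ (0, 0) (by rw [eight_valid.2.1]; exact hi)]
    exact rep_sgen ⟨i, hi⟩
  have hge : 6720 ≤ Nat.card S0 := by
    rw [← eight_levels.2]
    refine card_ge_levels eightLv S0 eight_levels.1 ?_
    intro L hL g hg
    obtain ⟨L', hL', rfl⟩ := List.mem_map.1 hL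
    obtain ⟨k, hk, rfl⟩ := List.mem_map.1 hg
    refine hs k ?_
    rw [hlen]
    have := List.all_eq_true.1 (List.all_eq_true.1 eight_valid.2.2.2 L' hL') k hk
    simpa [Nat.blt_eq] using this
  rw [h8]
  by_contra hlt
  -- a proper subgroup of the simple group would have index at most three
  let K := S0.subgroupOf (alternatingGroup (Fin 8))
  have hK : Nat.card K = Nat.card S0 := Nat.card_congr (Subgroup.subgroupOfEquivOfLe hle).toEquiv
  have := alternatingGroup.isSimpleGroup (α := Fin 8) (by rw [Nat.card_fin]; norm_num)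
  have hidx : K.index ≤ 3 := by
    have h1 := K.index_mul_card
    rw [hK, h8] at h1
    nlinarith
  have hcore : K.normalCore = ⊥ := by
    refine (K.normalCore_normal).eq_bot_or_eq_top.resolve_right fun e => ?_
    have : (⊤ : Subgroup _) ≤ K := e ▸ K.normalCore_le
    have h2 := congrArg (fun A : Subgroup _ => Nat.card A) (top_le_iff.1 this)
    simp only [Subgroup.card_top] at h2
    omega
  rw [Subgroup.normalCore_eq_ker, MonoidHom.ker_eq_bot_iff] at hcore
  have h3 := Nat.card_le_card_of_injective _ hcore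
  rw [h8, Nat.card_perm, ← Subgroup.index] at h3
  have := Nat.factorial_le hidx
  norm_num at this
  omega

theorem bis_moved : ¬ ∀ i : Fin 35, normBis ((bisSet i).image (sgen 0)) = bisSet i := by decide +kernel

theorem bisHom_injective :
    Function.Injective (bisHom.comp (alternatingGroup (Fin 8)).subtype) := by
  have := alternatingGroup.isSimpleGroup (α := Fin 8) (by rw [Nat.card_fin]; norm_num)
  rw [← MonoidHom.ker_eq_bot_iff]
  refine (MonoidHom.normal_ker _).eq_bot_or_eq_top.resolve_right fun htop => ?_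
  have h0 : sgen 0 ∈ alternatingGroup (Fin 8) := Equiv.Perm.mem_alternatingGroup.2 (sgen_sign 0)
  have h1 : ∀ k : Fin 7, bisHom (sgen k) = 1 := fun k => by
    have hk : (⟨sgen k, Equiv.Perm.mem_alternatingGroup.2 (sgen_sign k)⟩ : alternatingGroup (Fin 8)) ∈
        (bisHom.comp (alternatingGroup (Fin 8)).subtype).ker := htop ▸ Subgroup.mem_top _
    exact MonoidHom.mem_ker.1 hk
  have hall : ∀ k : Fin 7, ∀ i : Fin 35, normBis ((bisSet i).image (sgen k)) = bisSet i := fun k i => by
    rw [← bisSet_bisHom, h1 k, Equiv.Perm.one_apply]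
  exact bis_moved (hall 0)

theorem B_mem_K0 : (⟨hB, Subgroup.mem_centralizer_singleton_iff.2 rfl⟩ : C0) ∈ K0 ∧
    ∃ y ∈ K0, ((y * y : C0) : H) = hB := by
  have lift : ∀ k, twoTree.has k = true → ∀ g : P, Rep 9 275 k g → ∃ y : C0, y ∈ K0 ∧ ((y : H) : P) = g := by
    intro k hk g hg
    obtain ⟨x, hx, hxk⟩ := twoCert.exists_key hw twoEl_rep hk
    have hsub : Subgroup.closure {x | x ∈ twoEl} ≤ (K0.map C0.subtype).map H.subtype := by
      refine (Subgroup.closure_le _).2 ?_
      intro z hz
      simp only [twoEl, Set.mem_ofPred_eq, List.mem_cons, List.not_mem_nil, or_false] at hz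
      rcases hz with rfl | rfl | rfl
      · exact ⟨_, ⟨cgen 0, Subgroup.subset_closure ⟨0, rfl⟩, rfl⟩, rfl⟩
      · exact ⟨_, ⟨cgen 1, Subgroup.subset_closure ⟨1, rfl⟩, rfl⟩, rfl⟩
      · exact ⟨_, ⟨cgen 2, Subgroup.subset_closure ⟨2, rfl⟩, rfl⟩, rfl⟩
    obtain ⟨_, ⟨y, hy, rfl⟩, hyx⟩ := hsub hx
    exact ⟨y, hy, hyx.trans ((rep_key hw x).inj (hxk ▸ hg))⟩
  refine ⟨?_, ?_⟩
  · obtain ⟨y, hy, e⟩ := lift kb four_ok.2.1 pB rep_B
    exact (Subtype.ext (Subtype.ext e) : y = ⟨hB, _⟩) ▸ hy
  · obtain ⟨x, -, hxk⟩ := twoCert.exists_key hw twoEl_rep four_ok.1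
    have hr : Rep 9 275 kFour x := hxk ▸ rep_key hw x
    obtain ⟨y, hy, e⟩ := lift kFour four_ok.1 x hr
    refine ⟨y, hy, Subtype.ext ?_⟩
    have h2 := rep_comp hw hr hr
    rw [four_ok.2.2.1] at h2
    show ((y : H) : P) * ((y : H) : P) = pB
    rw [e, h2.inj rep_B]

theorem cover : IsNonsplitDoubleCover C0 (alternatingGroup (Fin 8)) := by
  classical
  have hcard : Nat.card C0 = 40320 := Nat.dvd_antisymm card_C0.1 card_C0.2
  let b : C0 := ⟨hB, Subgroup.mem_centralizer_singleton_iff.2 rfl⟩
  have hbk : rho b = 1 := by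
    refine Equiv.ext fun i => ptB_bijective.1 (Subtype.ext ?_)
    rw [rho_apply]
    exact (ptB i).2
  have hb1 : b ≠ 1 := fun e => hB_ne_one (congrArg Subtype.val e)
  have hb2 : b * b = 1 := Subtype.ext hB_sq
  let ψ := bisHom.comp (alternatingGroup (Fin 8)).subtype
  have himg : K0.map rho = ψ.range := by
    rw [map_K0, S0_eq, MonoidHom.range_comp, Subgroup.range_subtype]
  have hψ : Nat.card ψ.range = 20160 := by
    rw [← Nat.card_congr (MonoidHom.ofInjective bisHom_injective).toEquiv, nat_card_alternatingGroup,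
      Nat.card_fin]
    rfl
  have hK : K0 = ⊤ := by
    refine Subgroup.eq_top_of_card_eq _ (le_antisymm (Subgroup.card_le_card_group _) ?_)
    have h1 := (rho.comp K0.subtype).ker.card_mul_index
    rw [Subgroup.index_ker, MonoidHom.range_comp, Subgroup.range_subtype, himg, hψ] at h1
    have h2 : 2 ≤ Nat.card (rho.comp K0.subtype).ker := by
      refine Finite.one_lt_card_iff_nontrivial.2 ⟨⟨⟨⟨b, B_mem_K0.1⟩, hbk⟩, 1, fun e => hb1 ?_⟩⟩
      exact congrArg (fun z : (rho.comp K0.subtype).ker => ((z : K0) : C0)) e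
    rw [hcard, ← h1]
    nlinarith
  have hrange : rho.range = ψ.range := by rw [MonoidHom.range_eq_map, ← hK, himg]
  have hker : rho.ker = Subgroup.zpowers b := by
    have hle : Subgroup.zpowers b ≤ rho.ker := Subgroup.zpowers_le.2 hbk
    refine (Subgroup.eq_of_le_of_card_ge hle ?_).symm
    have h1 := rho.ker.card_mul_index
    rw [Subgroup.index_ker, hrange, hψ, hcard] at h1
    haveI : Fact (Nat.Prime 2) := ⟨Nat.prime_two⟩
    rw [Nat.card_zpowers, orderOf_eq_prime (by rw [pow_two]; exact hb2) hb1]
    omega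
  let e : C0 ⧸ rho.ker ≃* alternatingGroup (Fin 8) :=
    ((QuotientGroup.quotientKerEquivRange rho).trans (MulEquiv.subgroupCongr hrange)).trans
      (MonoidHom.ofInjective bisHom_injective).symm
  have := alternatingGroup.isSimpleGroup (α := Fin 8) (by rw [Nat.card_fin]; norm_num)
  have hcen : Subgroup.center C0 = Subgroup.zpowers b := by
    refine le_antisymm ?_ ?_
    · rw [← hker]
      intro z hz
      have hc : e (QuotientGroup.mk z) ∈ Subgroup.center (alternatingGroup (Fin 8)) := by
        rw [Subgroup.mem_center_iff]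
        intro g
        obtain ⟨q, rfl⟩ := e.surjective g
        obtain ⟨w, rfl⟩ := QuotientGroup.mk_surjective q
        rw [← map_mul, ← map_mul, ← QuotientGroup.mk_mul, ← QuotientGroup.mk_mul, Subgroup.mem_center_iff.1 hz w]
      rcases IsSimpleGroup.eq_bot_or_eq_top_of_normal (Subgroup.center (alternatingGroup (Fin 8))) inferInstance
        with h | h
      · rw [h, Subgroup.mem_bot, EmbeddingLike.map_eq_one_iff, QuotientGroup.eq_one_iff] at hc
        exact hc
      · exfalso
        revert h
        intro h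
        have hab : ∀ x y : alternatingGroup (Fin 8), x * y = y * x := fun x y =>
          (Subgroup.mem_center_iff.1 (h ▸ Subgroup.mem_top y) x)
        have h01 := congrArg Subtype.val (hab ⟨sgen 3, Equiv.Perm.mem_alternatingGroup.2 (sgen_sign 3)⟩
          ⟨sgen 4, Equiv.Perm.mem_alternatingGroup.2 (sgen_sign 4)⟩)
        exact absurd h01 (by decide +kernel)
    · rw [Subgroup.zpowers_le, Subgroup.mem_center_iff]
      intro g
      exact Subtype.ext (Subgroup.mem_centralizer_singleton_iff.1 g.2)
  refine ⟨?_, ?_, ?_⟩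
  · haveI : Fact (Nat.Prime 2) := ⟨Nat.prime_two⟩
    rw [hcen, Nat.card_zpowers, orderOf_eq_prime (by rw [pow_two]; exact hb2) hb1]
  · exact ⟨(QuotientGroup.quotientMulEquivOfEq (hcen.trans hker.symm)).trans e⟩
  · intro L hL
    obtain ⟨y, -, hy⟩ := B_mem_K0.2
    have hidx : L.index = 2 := by
      rw [hL.index_eq_card]
      haveI : Fact (Nat.Prime 2) := ⟨Nat.prime_two⟩
      rw [hcen, Nat.card_zpowers, orderOf_eq_prime (by rw [pow_two]; exact hb2) hb1]
    have hbL : b ∈ L := by
      have := Subgroup.mul_self_mem_of_index_two hidx y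
      rwa [show y * y = b from Subtype.ext hy] at this
    have hbb : b ∈ Subgroup.center C0 ⊓ L := ⟨hcen ▸ Subgroup.mem_zpowers b, hbL⟩
    rw [hL.disjoint.eq_bot, Subgroup.mem_bot] at hbb
    exact hb1 hbb

theorem involution_centralizer :
    (∀ x y : ↥Cfsg.Spor.McL, orderOf x = 2 → orderOf y = 2 → IsConj x y) ∧
      ∃ t : ↥Cfsg.Spor.McL, orderOf t = 2 ∧
        IsNonsplitDoubleCover ↥(Subgroup.centralizer ({t} : Set ↥Cfsg.Spor.McL)) ↥(alternatingGroup (Fin 8)) := by
  obtain ⟨e⟩ := H_spec.1
  refine ⟨fun x y hx hy => ?_, e.symm hB, ?_, ?_⟩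
  · have key : ∀ z, orderOf z = 2 → IsConj hB (e z) := fun z hz => by
      have h2 : z ^ 2 = 1 := hz ▸ pow_orderOf_eq_one z
      refine involution_conj (by rw [← pow_two, ← map_pow, h2, map_one]) fun h => ?_
      rw [EmbeddingLike.map_eq_one_iff] at h
      rw [h, orderOf_one] at hz
      omega
    have h := e.symm.toMonoidHom.map_isConj ((key x hx).symm.trans (key y hy))
    simpa using h
  · haveI : Fact (Nat.Prime 2) := ⟨Nat.prime_two⟩
    rw [MulEquiv.orderOf_eq]
    exact orderOf_eq_prime (by rw [pow_two]; exact hB_sq) hB_ne_one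
  · have hmap : (Subgroup.centralizer ({e.symm hB} : Set ↥Cfsg.Spor.McL)).map e.toMonoidHom = C0 := by
      ext z
      constructor
      · rintro ⟨w, hw', rfl⟩
        rw [Subgroup.mem_centralizer_singleton_iff]
        have h := congrArg e (Subgroup.mem_centralizer_singleton_iff.1 hw')
        simpa using h
      · intro hz
        refine ⟨e.symm z, ?_, e.apply_symm_apply z⟩
        rw [SetLike.mem_coe, Subgroup.mem_centralizer_singleton_iff, ← map_mul, ← map_mul,
          Subgroup.mem_centralizer_singleton_iff.1 hz]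
    let f : ↥(Subgroup.centralizer ({e.symm hB} : Set ↥Cfsg.Spor.McL)) ≃* C0 :=
      (e.subgroupMap _).trans (MulEquiv.subgroupCongr hmap)
    obtain ⟨c1, ⟨c2⟩, c3⟩ := cover
    have hc : (Subgroup.center _).map f.toMonoidHom = Subgroup.center C0 := by
      ext z
      constructor
      · rintro ⟨w, hw', rfl⟩
        rw [Subgroup.mem_center_iff]
        intro g
        obtain ⟨g', rfl⟩ := f.surjective g
        show f g' * f w = f w * f g'
        rw [← map_mul, ← map_mul, Subgroup.mem_center_iff.1 hw' g']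
      · intro hz
        refine ⟨f.symm z, ?_, f.apply_symm_apply z⟩
        rw [SetLike.mem_coe, Subgroup.mem_center_iff]
        intro g
        apply f.injective
        rw [map_mul, map_mul, f.apply_symm_apply]
        exact Subgroup.mem_center_iff.1 hz (f g)
    refine ⟨?_, ⟨(QuotientGroup.congr _ _ f hc).trans c2⟩, fun L hL => c3 (L.map f.toMonoidHom) ?_⟩
    · rw [← c1, ← hc]
      exact Nat.card_congr (Subgroup.equivMapOfInjective _ _ f.injective).toEquiv
    · rw [← hc]
      refine Subgroup.isComplement'_of_disjoint_and_mul_eq_univ ?_ ?_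
      · rw [disjoint_iff, ← Subgroup.map_inf _ _ _ f.injective, hL.disjoint.eq_bot, Subgroup.map_bot]
      · ext z
        simp only [Set.mem_univ, iff_true]
        obtain ⟨⟨x, y⟩, hxy⟩ := hL.2 (f.symm z)
        exact Set.mem_mul.2 ⟨f x, ⟨x, x.2, rfl⟩, f y, ⟨y, y.2, rfl⟩, by
          rw [← map_mul]
          exact (congrArg f hxy).trans (f.apply_symm_apply z)⟩

end CfsgLib.Sporadic.OutCert.McL
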