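import Cfsg.Agent.Lib.Sporadic.OutCert.McL.Defs

/-!
Kernel checks of the data for the automorphisms of the McLaughlin group.
-/

set_option autoImplicit false
set_option maxRecDepth 100000
set_option maxHeartbeats 0
set_option Elab.async false

namespace CfsgLib.Sporadic.OutCert.McL

open CfsgLib.SmallGroups

theorem two_one : twoTree.has (oneK 9 275) = true := by decide +kernel

theorem two_node : twoTree.every (closeK 9 275 twoTree twoGens) = true := by decide +kernel

theorem two_sorted : List.IsChain (· < ·) (twoTree.entries.map Prod.fst) ∧ twoTree.entries.length = 128 := by
  decide +kernel

theorem two_invs : twoTree.every (fun k _ _ _ => invK k) = true := by decide +kernel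

end CfsgLib.Sporadic.OutCert.McL
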