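import Cfsg.Agent.Lib.Sporadic.OutCert.McL.Embed
import Cfsg.Agent.Lib.Sporadic.OutCert.McL.CheckTwo
import Cfsg.Agent.Lib.Sporadic.OutCert.McL.CheckThree

/-!
The two permutations generate the image of the McLaughlin group.
-/

set_option autoImplicit false
set_option maxRecDepth 10000

namespace CfsgLib.Sporadic.OutCert.McL

open Cfsg CfsgLib.SmallGroups

attribute [local irreducible] lk pkF allF compK ka kai kb kt gTab twoTree threeTree aW bW

/-- The element of order 11. -/
noncomputable def pA : P := permOf ka kai base_valid.1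

/-- The involution. -/
noncomputable def pB : P := permOf kb kb base_valid.2.1

/-- The outer involution. -/
noncomputable def pT : P := permOf kt kt base_valid.2.2

theorem rep_A : Rep 9 275 ka pA := rep_permOf _
theorem rep_B : Rep 9 275 kb pB := rep_permOf _
theorem rep_B_inv : Rep 9 275 kb pB⁻¹ := rep_permOf_inv _
theorem rep_T : Rep 9 275 kt pT := rep_permOf _
theorem rep_T_inv : Rep 9 275 kt pT⁻¹ := rep_permOf_inv _

theorem gWord_mem_range : ∀ l : List ℕ, (∀ i ∈ l, i < 12) → ∃ g ∈ psi.range, Rep 9 275 (gWordK l) g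
  | [], _ => ⟨1, one_mem _, rep_one hw⟩
  | i :: l, h => by
    obtain ⟨g, hg, hgr⟩ := gTab_mem_range (h i List.mem_cons_self)
    obtain ⟨x, hx, hxr⟩ := gWord_mem_range l fun j hj => h j (List.mem_cons_of_mem _ hj)
    exact ⟨g * x, mul_mem hg hx, rep_comp hw hgr hxr⟩

theorem A_mem_range : pA ∈ psi.range := by
  obtain ⟨g, hg, hr⟩ := gWord_mem_range aW fun i hi => by
    simpa [Nat.blt_eq] using List.all_eq_true.1 ab_words.2.2.1 i hi
  rw [ab_words.1] at hr
  rwa [rep_A.inj hr]

theorem B_mem_range : pB ∈ psi.range := by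
  obtain ⟨g, hg, hr⟩ := gWord_mem_range bW fun i hi => by
    simpa [Nat.blt_eq] using List.all_eq_true.1 ab_words.2.2.2 i hi
  rw [ab_words.2.1] at hr
  rwa [rep_B.inj hr]

/-- An element given by a word. -/
noncomputable abbrev wp (l : List Bool) : P := wordP pA pB l

theorem rep_wp (l : List Bool) : Rep 9 275 (wk l) (wp l) := rep_word hw rep_A rep_B l

theorem wk_eq_key (l : List Bool) : wk l = key 9 (wp l) := key_word hw rep_A rep_B l

/-- The subgroup generated by the two permutations. -/
noncomputable def H : Subgroup P := Subgroup.closure {pA, pB}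

theorem A_mem : pA ∈ H := Subgroup.subset_closure (by simp)
theorem B_mem : pB ∈ H := Subgroup.subset_closure (by simp)

theorem wp_mem (l : List Bool) : wp l ∈ H := by
  refine list_prod_mem fun x hx => ?_
  obtain ⟨c, -, rfl⟩ := List.mem_map.1 hx
  cases c
  · exact A_mem
  · exact B_mem

theorem reach (i : Fin 275) : ∃ g ∈ H, g 0 = i := by
  refine ⟨wp (orbW.getD i []), wp_mem _, Fin.ext ((rep_wp _ 0).symm.trans ?_)⟩
  exact beq_iff_eq.1 (List.all_eq_true.1 orb_reach i (List.mem_range.2 i.2))

theorem single {n : ℕ} {g : P} (h : Rep 9 275 n g) {m : ℕ} (ht : testK 9 275 [n] m = true) : g ^ m = 1 := by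
  have := (test_iff (List.Forall₂.cons h List.Forall₂.nil) m).1 ht
  simpa using this

theorem orderOf_wp {l : List Bool} {p : ℕ} [Fact p.Prime] (ht : testK 9 275 [wk l] p = true)
    (hne : wk l ≠ oneK 9 275) : orderOf (wp l) = p :=
  orderOf_eq_prime (single (rep_wp l) ht) (ne_one_of_ne hw (wk_eq_key l) hne)

theorem A_pow : pA ^ 11 = 1 := single rep_A elems.1

theorem orderOf_A : orderOf pA = 11 := by
  haveI : Fact (Nat.Prime 11) := ⟨by norm_num⟩
  refine orderOf_eq_prime A_pow (ne_one_of_ne hw ?_ elems.2.1)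
  have h := key_comp rep_A (rep_one (w := 9) hw)
  rw [mul_one] at h
  rw [← h]
  decide +kernel

theorem B_ne_one : pB ≠ 1 := by
  refine ne_one_of_ne hw ?_ elems.2.2.1
  have h := key_comp rep_B (rep_one (w := 9) hw)
  rw [mul_one] at h
  rw [← h]
  decide +kernel

theorem B_sq : pB * pB = 1 := by
  calc pB * pB = pB * pB⁻¹ := congrArg (pB * ·) (rep_B.inj rep_B_inv)
    _ = 1 := mul_inv_cancel pB

/-- Generators of the subgroup of order 128. -/
noncomputable def twoEl : List P := [wp s20W, wp s21W, wp s22W]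

theorem twoEl_rep : List.Forall₂ (Rep 9 275) twoGens twoEl :=
  List.Forall₂.cons (rep_wp _) (List.Forall₂.cons (rep_wp _) (List.Forall₂.cons (rep_wp _) List.Forall₂.nil))

theorem twoCert : ClosCert 9 275 twoTree twoGens := ⟨two_one, two_node, two_sorted.1⟩

/-- The subgroup of order 128. -/
noncomputable def S2 : Subgroup P := Subgroup.closure {x | x ∈ twoEl}

theorem card_S2 : Nat.card S2 = 128 := (twoCert.card_eq hw twoEl_rep).trans two_sorted.2

theorem S2_le_H : S2 ≤ H := by
  refine (Subgroup.closure_le _).2 ?_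
  intro x hx
  simp only [twoEl, Set.mem_ofPred_eq, List.mem_cons, List.not_mem_nil, or_false] at hx
  rcases hx with rfl | rfl | rfl <;> exact wp_mem _

/-- Generators of the subgroup of order 729. -/
noncomputable def threeEl : List P := [wp s30W, wp s31W, wp s32W]

/-- The subgroup of order 729. -/
noncomputable def S3 : Subgroup P := Subgroup.closure {x | x ∈ threeEl}

theorem card_S3 : Nat.card S3 = 729 :=
  (ClosCert.card_eq (L := threeEl) hw ⟨three_one, three_node, three_sorted.1⟩
    (List.Forall₂.cons (rep_wp _) (List.Forall₂.cons (rep_wp _) (List.Forall₂.cons (rep_wp _) List.Forall₂.nil)))).trans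
    three_sorted.2

theorem S3_le_H : S3 ≤ H := by
  refine (Subgroup.closure_le _).2 ?_
  intro x hx
  simp only [threeEl, Set.mem_ofPred_eq, List.mem_cons, List.not_mem_nil, or_false] at hx
  rcases hx with rfl | rfl | rfl <;> exact wp_mem _

theorem dvd_card_H : 898128000 ∣ Nat.card H := by
  classical
  have horb : MulAction.orbit H (0 : Fin 275) = Set.univ := by
    refine Set.eq_univ_of_forall fun i => ?_
    obtain ⟨g, hg, e⟩ := reach i
    exact ⟨⟨g, hg⟩, e⟩
  have h275 : 275 * Nat.card (MulAction.stabilizer H (0 : Fin 275)) = Nat.card H := by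
    rw [← (MulAction.stabilizer H (0 : Fin 275)).card_mul_index, MulAction.index_stabilizer, horb,
      Set.ncard_univ, Nat.card_fin, mul_comm]
  have hel : ∀ (l : List Bool) (p : ℕ), p.Prime → testK 9 275 [wk l] p = true → wk l ≠ oneK 9 275 →
      lk 9 (wk l) 0 = 0 → p ∣ Nat.card (MulAction.stabilizer H (0 : Fin 275)) := by
    intro l p hp ht hne h0
    haveI := Fact.mk hp
    have hmem : (⟨wp l, wp_mem l⟩ : H) ∈ MulAction.stabilizer H (0 : Fin 275) :=
      Fin.ext ((rep_wp l 0).symm.trans h0)
    have := orderOf_dvd_natCard (⟨⟨wp l, wp_mem l⟩, hmem⟩ : MulAction.stabilizer H (0 : Fin 275))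
    rwa [← orderOf_injective (MulAction.stabilizer H (0 : Fin 275)).subtype Subtype.coe_injective,
      ← orderOf_injective H.subtype Subtype.coe_injective, Subgroup.subtype_apply,
      Subgroup.subtype_apply, orderOf_wp ht hne] at this
  obtain ⟨-, -, -, e1, e2, e3, e4, e5, e6⟩ := elems
  have h35 : 35 ∣ Nat.card (MulAction.stabilizer H (0 : Fin 275)) :=
    Nat.Coprime.mul_dvd_of_dvd_of_dvd (m := 5) (n := 7) (by norm_num)
      (hel e5W 5 (by norm_num) e1 e2 e3) (hel e7W 7 (by norm_num) e4 e5 e6)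
  have ha : 9625 ∣ Nat.card H := h275 ▸ Nat.mul_dvd_mul_left 275 h35
  have hb : 128 ∣ Nat.card H := card_S2 ▸ Subgroup.card_dvd_of_le S2_le_H
  have hc : 729 ∣ Nat.card H := card_S3 ▸ Subgroup.card_dvd_of_le S3_le_H
  exact (show 898128000 = Nat.lcm (Nat.lcm 9625 128) 729 by norm_num) ▸ Nat.lcm_dvd (Nat.lcm_dvd ha hb) hc

theorem H_spec : Nonempty (Cfsg.Spor.McL ≃* H) ∧ Nat.card H = 898128000 := by
  obtain ⟨e⟩ := nonempty_iso_G2
  have hcard : Nat.card psi.range = 898128000 := by
    rw [← Nat.card_congr (MonoidHom.ofInjective psi_injective).toEquiv, LeechMcL.card_G2]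
  have hle : H ≤ psi.range := by
    refine (Subgroup.closure_le _).2 ?_
    rintro x (rfl | rfl)
    · exact A_mem_range
    · exact B_mem_range
  have heq := Subgroup.eq_of_le_of_card_ge hle (by rw [hcard]; exact Nat.le_of_dvd Nat.card_pos dvd_card_H)
  exact ⟨⟨(e.trans (MonoidHom.ofInjective psi_injective)).trans (MulEquiv.subgroupCongr heq.symm)⟩,
    heq.symm ▸ hcard⟩

end CfsgLib.Sporadic.OutCert.McL
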