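import Cfsg.Agent.Lib.Sporadic.OutCert.Closure
import Cfsg.Agent.Lib.Sporadic.OutCert.McL.Data
import Cfsg.Agent.Lib.Sporadic.OutCert.McL.DataTwo
import Cfsg.Agent.Lib.Sporadic.OutCert.McL.DataThree
import Cfsg.Agent.Lib.Sporadic.OutCert.McL.DataReps
import Cfsg.Agent.Lib.Sporadic.OutCert.McL.DataProj
import Cfsg.Agent.Lib.SmallGroups.LeechMcLData

/-!
The checks on the data for the automorphisms of the McLaughlin group.
-/

set_option autoImplicit false
set_option maxRecDepth 100000
set_option maxHeartbeats 0

namespace CfsgLib.Sporadic.OutCert.McL

open CfsgLib.SmallGroups CfsgLib.SmallGroups.LeechOrbit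

/-- The number of a word in the generators. -/
noncomputable def wk (l : List Bool) : ℕ := wordK 9 275 ka kb l

/-- The number of a word in the generators of the lattice library. -/
noncomputable def gWordK (l : List ℕ) : ℕ :=
  l.foldr (fun i acc => compK 9 275 (gTab.getD i (0, 0)).1 acc) (oneK 9 275)

/-- A lattice word moves the listed vectors as the table says. -/
noncomputable def runK (m : ℕ) : Bool :=
  allF (fun i => LeechOrbit.run (LeechMcLData.gens2.getD m []) (lk 100 vN i) ==
    some (lk 100 vN (lk 9 (gTab.getD m (0, 0)).1 i))) 275

/-- The numbers of the generators of the subgroup of order 128. -/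
noncomputable def twoGens : List ℕ := [wk s20W, wk s21W, wk s22W]

/-- The numbers of the generators of the subgroup of order 729. -/
noncomputable def threeGens : List ℕ := [wk s30W, wk s31W, wk s32W]

/-- The numbers of the two commuting elements of order three. -/
noncomputable def nineGens : List ℕ := [wk e3W, wk f3W]

/-- An element is the identity or does not square to it or has a conjugating word. -/
noncomputable def invK (k : ℕ) : Bool :=
  k == oneK 9 275 || !(compK 9 275 k k == oneK 9 275) ||
    invTab.any fun e => e.1 == k && compK 9 275 (wk e.2) kb == compK 9 275 k (wk e.2)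

/-- A representative is the conjugate that the table says. -/
noncomputable def repNodeK (n r i j : ℕ) : Bool :=
  Nat.blt n 2025 && (Nat.blt i uTab.length && (Nat.blt j vTab.length &&
    (conjK 9 275 (wk (uTab.getD i ([], 0)).1) (uTab.getD i ([], 0)).2 (vTab.getD j ([], 0, 0)).2.2 == r)))

/-- The number of a representative. -/
noncomputable def repKey (n : ℕ) : ℕ := ((repTree.get n).getD (0, 0, 0)).1

/-- Images of the chosen points under a conjugate of a representative by a power of `a`. -/
noncomputable def proj (i n : ℕ) : ℕ :=
  pk 9 (projPts.map fun x =>
    appK 9 [aPows.getD i 0, repKey n, aPows.getD ((11 - i) % 11) 0] x)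

/-- The projection determines the pair. -/
noncomputable def projNodeK (n : ℕ) : Bool :=
  allF (fun i => match projTree.get (proj i n) with
    | none => false
    | some v => Nat.beq v.1 i && Nat.beq v.2.1 n) 11

/-- The factors of a test. -/
def testWord (m k : ℕ) (es : List ℕ) : List ℕ :=
  es.flatMap fun e => [aPows.getD (e * m % 11) 0, k]

/-- A representative fails the tests for the second power, and for the first unless it is a survivor. -/
noncomputable def survK (n r : ℕ) : Bool :=
  (tests.any (fun t => !testK 9 275 (testWord 1 r t.1) t.2) || (n == nB || n == nC)) &&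
    tests.any (fun t => !testK 9 275 (testWord 2 r t.1) t.2)

end CfsgLib.Sporadic.OutCert.McL
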