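import Cfsg.Agent.Lib.Sporadic.OutCert.McL.Defs

/-!
Kernel checks of the data for the automorphisms of the McLaughlin group.
-/

set_option autoImplicit false
set_option maxRecDepth 100000
set_option maxHeartbeats 0
set_option Elab.async false

namespace CfsgLib.Sporadic.OutCert.McL

open CfsgLib.SmallGroups

theorem g_valid : (gTab.all fun g => validK 9 275 g.1 g.2) = true ∧ gTab.length = 12 ∧
    LeechMcLData.gens2.length = 12 := by decide +kernel

theorem v_keys : List.IsChain (· < ·) vKeys ∧ vKeys.length = 275 ∧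
    (vKeys.all fun k => LeechMcLData.tree275.has k) = true := by decide +kernel

theorem v_at : ((List.range 275).map fun i => lk 100 vN i) = vKeys := by decide +kernel

theorem ab_words : gWordK aW = ka ∧ gWordK bW = kb ∧ (aW.all fun i => Nat.blt i 12) = true ∧
    (bW.all fun i => Nat.blt i 12) = true := by decide +kernel

theorem base_valid : validK 9 275 ka kai = true ∧ validK 9 275 kb kb = true ∧ validK 9 275 kt kt = true := by
  decide +kernel

theorem a_pows : ((List.range 11).all fun i => aPows.getD i 0 == wk (List.replicate i false)) = true := by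
  decide +kernel

theorem orb_reach : ((List.range 275).all fun i => lk 9 (wk (orbW.getD i [])) 0 == i) = true := by
  decide +kernel

theorem elems : testK 9 275 [ka] 11 = true ∧ ka ≠ oneK 9 275 ∧ kb ≠ oneK 9 275 ∧
    testK 9 275 [wk e5W] 5 = true ∧ wk e5W ≠ oneK 9 275 ∧ lk 9 (wk e5W) 0 = 0 ∧
    testK 9 275 [wk e7W] 7 = true ∧ wk e7W ≠ oneK 9 275 ∧ lk 9 (wk e7W) 0 = 0 := by
  decide +kernel

theorem cent_elems : testK 9 275 [wk c5W] 5 = true ∧ wk c5W ≠ oneK 9 275 ∧
    testK 9 275 [wk c7W] 7 = true ∧ wk c7W ≠ oneK 9 275 ∧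
    testK 9 275 [wk e3W] 3 = true ∧ wk e3W ≠ oneK 9 275 ∧
    testK 9 275 [wk f3W] 3 = true ∧ wk f3W ≠ oneK 9 275 ∧
    wk f3W ≠ wk e3W ∧ wk f3W ≠ compK 9 275 (wk e3W) (wk e3W) ∧
    compK 9 275 (wk e3W) (wk f3W) = compK 9 275 (wk f3W) (wk e3W) ∧
    ((twoGens ++ [wk c5W, wk c7W, wk e3W, wk f3W]).all fun x => compK 9 275 x kb == compK 9 275 kb x) = true := by
  decide +kernel

theorem norm_tab : ((List.range 10).all fun j =>
    compK 9 275 (wk (normTab.getD j ([], 0)).1) (aPows.getD (j + 1) 0) ==
      compK 9 275 (if (normTab.getD j ([], 0)).2 == 1 then ka else aPows.getD 2 0)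
        (wk (normTab.getD j ([], 0)).1)) = true := by
  decide +kernel

theorem outer : compK 9 275 kt ka = compK 9 275 ka kt ∧
    compK 9 275 kt kb = compK 9 275 (wk tbW) kt ∧ kt ≠ oneK 9 275 ∧
    (List.range 275).countP (fun i => lk 9 kt i == i) ≠ (List.range 275).countP (fun i => lk 9 kb i == i) := by
  decide +kernel

theorem b_tests : (tests.all fun t => testK 9 275 (testWord 1 kb t.1) t.2) = true := by decide +kernel

theorem surv_index : repKey nB = kb ∧ repTree.has nB = true ∧ repTree.has nC = true := by decide +kernel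

end CfsgLib.Sporadic.OutCert.McL
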