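import Cfsg.Agent.Lib.Sporadic.OutCert.McL.Defs

/-!
Kernel checks of the data for the automorphisms of the McLaughlin group.
-/

set_option autoImplicit false
set_option maxRecDepth 100000
set_option maxHeartbeats 0
set_option Elab.async false

namespace CfsgLib.Sporadic.OutCert.McL

open CfsgLib.SmallGroups

theorem proj_ok0 : repTree0.every (fun n _ _ _ => projNodeK n) = true := by decide +kernel

theorem proj_ok1 : repTree1.every (fun n _ _ _ => projNodeK n) = true := by decide +kernel

theorem proj_ok2 : repTree2.every (fun n _ _ _ => projNodeK n) = true := by decide +kernel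

theorem proj_ok3 : repTree3.every (fun n _ _ _ => projNodeK n) = true := by decide +kernel

theorem proj_ok4 : repTree4.every (fun n _ _ _ => projNodeK n) = true := by decide +kernel

theorem proj_ok5 : repTree5.every (fun n _ _ _ => projNodeK n) = true := by decide +kernel

theorem proj_ok6 : repTree6.every (fun n _ _ _ => projNodeK n) = true := by decide +kernel

theorem proj_ok7 : repTree7.every (fun n _ _ _ => projNodeK n) = true := by decide +kernel

theorem proj_ok8 : repTree8.every (fun n _ _ _ => projNodeK n) = true := by decide +kernel

theorem proj_ok9 : repTree9.every (fun n _ _ _ => projNodeK n) = true := by decide +kernel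

theorem proj_ok10 : repTree10.every (fun n _ _ _ => projNodeK n) = true := by decide +kernel

theorem proj_ok11 : repTree11.every (fun n _ _ _ => projNodeK n) = true := by decide +kernel

theorem proj_ok12 : repTree12.every (fun n _ _ _ => projNodeK n) = true := by decide +kernel

theorem proj_ok13 : repTree13.every (fun n _ _ _ => projNodeK n) = true := by decide +kernel

theorem proj_ok14 : repTree14.every (fun n _ _ _ => projNodeK n) = true := by decide +kernel

theorem proj_ok15 : repTree15.every (fun n _ _ _ => projNodeK n) = true := by decide +kernel

theorem proj_okTop0 : projNodeK 0x7e = true := by decide +kernel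

theorem proj_okTop1 : projNodeK 0x17c = true := by decide +kernel

theorem proj_okTop2 : projNodeK 0xfd = true := by decide +kernel

theorem proj_okTop3 : projNodeK 0x279 = true := by decide +kernel

theorem proj_okTop4 : projNodeK 0x376 = true := by decide +kernel

theorem proj_okTop5 : projNodeK 0x2f7 = true := by decide +kernel

theorem proj_okTop6 : projNodeK 0x1fa = true := by decide +kernel

theorem proj_okTop7 : projNodeK 0x473 = true := by decide +kernel

theorem proj_okTop8 : projNodeK 0x571 = true := by decide +kernel

theorem proj_okTop9 : projNodeK 0x4f2 = true := by decide +kernel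

theorem proj_okTop10 : projNodeK 0x66e = true := by decide +kernel

theorem proj_okTop11 : projNodeK 0x76b = true := by decide +kernel

theorem proj_okTop12 : projNodeK 0x6ec = true := by decide +kernel

theorem proj_okTop13 : projNodeK 0x5ef = true := by decide +kernel

theorem proj_okTop14 : projNodeK 0x3f4 = true := by decide +kernel

theorem proj_ok : repTree.every (fun n _ _ _ => projNodeK n) = true := by
  simp only [repTree, Tree.every, proj_ok0, proj_ok1, proj_ok2, proj_ok3, proj_ok4, proj_ok5, proj_ok6, proj_ok7, proj_ok8, proj_ok9, proj_ok10, proj_ok11, proj_ok12, proj_ok13, proj_ok14, proj_ok15, proj_okTop0, proj_okTop1, proj_okTop2, proj_okTop3, proj_okTop4, proj_okTop5, proj_okTop6, proj_okTop7, proj_okTop8, proj_okTop9, proj_okTop10, proj_okTop11, proj_okTop12, proj_okTop13, proj_okTop14, Bool.and_self]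

theorem proj_pts : projPts.all (fun x => Nat.blt x 275) = true := by decide +kernel

end CfsgLib.Sporadic.OutCert.McL
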