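import Cfsg.Agent.Lib.Sporadic.OutCert.McL.Defs

/-!
Kernel checks of the data for the automorphisms of the McLaughlin group.
-/

set_option autoImplicit false
set_option maxRecDepth 100000
set_option maxHeartbeats 0
set_option Elab.async false

namespace CfsgLib.Sporadic.OutCert.McL

open CfsgLib.SmallGroups

theorem g_run0 : runK 0 = true := by decide +kernel

theorem g_run1 : runK 1 = true := by decide +kernel

theorem g_run2 : runK 2 = true := by decide +kernel

theorem g_run3 : runK 3 = true := by decide +kernel

theorem g_run4 : runK 4 = true := by decide +kernel

theorem g_run5 : runK 5 = true := by decide +kernel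

theorem g_run6 : runK 6 = true := by decide +kernel

theorem g_run7 : runK 7 = true := by decide +kernel

theorem g_run8 : runK 8 = true := by decide +kernel

theorem g_run9 : runK 9 = true := by decide +kernel

theorem g_run10 : runK 10 = true := by decide +kernel

theorem g_run11 : runK 11 = true := by decide +kernel

theorem g_run : ∀ m < 12, runK m = true := by
  intro m hm
  interval_cases m
  · exact g_run0
  · exact g_run1
  · exact g_run2
  · exact g_run3
  · exact g_run4
  · exact g_run5
  · exact g_run6
  · exact g_run7
  · exact g_run8
  · exact g_run9
  · exact g_run10
  · exact g_run11

end CfsgLib.Sporadic.OutCert.McL
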