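import Cfsg.Agent.Lib.Sporadic.OutCert.McL.Group
import Cfsg.Agent.Lib.Sporadic.OutCert.McL.CheckReps
import Cfsg.Agent.Lib.Sporadic.OutCert.McL.CheckProj
import Cfsg.Agent.Lib.Sporadic.OutCert.Out

/-!
The involutions of the group are the 22275 listed conjugates.
-/

set_option autoImplicit false
set_option maxRecDepth 10000

namespace CfsgLib.Sporadic.OutCert.McL

attribute [local irreducible] lk pkF allF compK conjK ka kai kb kt gTab twoTree repTree projTree aPows uTab vTab projPts

/-- The first generator in the group. -/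
noncomputable def hA : H := ⟨pA, A_mem⟩

/-- The second generator in the group. -/
noncomputable def hB : H := ⟨pB, B_mem⟩

theorem closure_gen : Subgroup.closure ({hA, hB} : Set H) = ⊤ := by
  apply Subgroup.map_injective H.subtype_injective
  rw [MonoidHom.map_closure, ← MonoidHom.range_eq_map, Subgroup.range_subtype, Set.image_pair]
  rfl

theorem hB_sq : hB * hB = 1 := Subtype.ext B_sq

theorem hB_ne_one : hB ≠ 1 := fun e => B_ne_one (congrArg Subtype.val e)

theorem orderOf_hA : orderOf hA = 11 := by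
  rw [← orderOf_injective H.subtype Subtype.coe_injective]
  exact orderOf_A

theorem involution_conj {x : H} (h2 : x * x = 1) (h1 : x ≠ 1) : IsConj hB x := by
  classical
  haveI : Fact (Nat.Prime 2) := ⟨Nat.prime_two⟩
  have hcard : Nat.card (S2.subgroupOf H) = 2 ^ (Nat.card H).factorization 2 := by
    rw [Nat.card_congr (Subgroup.subgroupOfEquivOfLe S2_le_H).toEquiv, card_S2, H_spec.2]
    have : (898128000 : ℕ).factorization 2 = 7 := by
      refine le_antisymm ?_ ((Nat.prime_two.pow_dvd_iff_le_factorization (by norm_num)).1 (by norm_num))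
      by_contra h
      have := (Nat.prime_two.pow_dvd_iff_le_factorization (k := 8) (by norm_num : (898128000 : ℕ) ≠ 0)).2 (by omega)
      norm_num at this
    rw [this]; norm_num
  have hp : IsPGroup 2 (Subgroup.zpowers x) := by
    refine IsPGroup.of_card (n := 1) ?_
    rw [Nat.card_zpowers, pow_one]
    exact orderOf_eq_prime (by rw [pow_two]; exact h2) h1
  obtain ⟨Q, hQ⟩ := hp.exists_le_sylow
  obtain ⟨g, hg⟩ := MulAction.exists_smul_eq H Q (Sylow.ofCard (S2.subgroupOf H) hcard)
  have hy : g * x * g⁻¹ ∈ S2.subgroupOf H := by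
    have h := congrArg (fun R : Sylow 2 H => (R : Subgroup H)) hg
    simp only [Sylow.coe_subgroup_smul] at h
    rw [← show _ = S2.subgroupOf H from h]
    exact ⟨x, hQ (Subgroup.mem_zpowers x), rfl⟩
  have hconj : IsConj x (g * x * g⁻¹) := isConj_iff.2 ⟨g, rfl⟩
  have hy2 : g * x * g⁻¹ * (g * x * g⁻¹) = 1 := by
    rw [show g * x * g⁻¹ * (g * x * g⁻¹) = g * (x * x) * g⁻¹ by group, h2]; group
  have hy1 : g * x * g⁻¹ ≠ 1 := fun e => h1 (conj_eq_one_iff.1 e)
  refine IsConj.trans ?_ hconj.symm
  generalize g * x * g⁻¹ = y at hy hy2 hy1 ⊢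
  have hk := twoCert.has_key hw twoEl_rep (Subgroup.mem_subgroupOf.1 hy)
  obtain ⟨p, q, d, hc⟩ := Tree.sound_of_has two_invs hk
  have hk1 : (key 9 (y : P) == oneK 9 275) = false :=
    beq_eq_false_iff_ne.2 fun e => hy1 (Subtype.ext ((rep_key hw _).inj (by rw [e, key_one]; exact rep_key hw _)))
  have hsq : (compK 9 275 (key 9 (y : P)) (key 9 (y : P)) == oneK 9 275) = true := by
    rw [beq_iff_eq, key_comp (rep_key hw _) (rep_key hw _), key_one]
    exact congrArg (key 9) (congrArg Subtype.val hy2)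
  simp only [invK, hk1, hsq, Bool.not_true, Bool.false_or, List.any_eq_true, Bool.and_eq_true,
    beq_iff_eq] at hc
  obtain ⟨e, -, -, he⟩ := hc
  have h := rep_comp hw (rep_wp e.2) rep_B
  rw [he] at h
  have h' := h.inj (rep_comp hw (rep_key hw _) (rep_wp e.2))
  refine isConj_iff.2 ⟨⟨wp e.2, wp_mem _⟩, Subtype.ext ?_⟩
  show wp e.2 * pB * (wp e.2)⁻¹ = (y : P)
  rw [h', mul_inv_cancel_right]

theorem cent_dvd : 40320 ∣ Nat.card (Subgroup.centralizer ({hB} : Set H)) := by
  classical
  obtain ⟨a1, a2, a3, a4, a5, a6, a7, a8, a9, a10, a11, a12⟩ := cent_elems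
  have hcomm : ∀ l, wk l ∈ twoGens ++ [wk c5W, wk c7W, wk e3W, wk f3W] →
      (⟨wp l, wp_mem l⟩ : H) ∈ Subgroup.centralizer ({hB} : Set H) := by
    intro l hl
    have h := beq_iff_eq.1 (List.all_eq_true.1 a12 _ hl)
    have h1 := rep_comp hw (rep_wp l) rep_B
    rw [h] at h1
    rw [Subgroup.mem_centralizer_singleton_iff]
    exact Subtype.ext (h1.inj (rep_comp hw rep_B (rep_wp l)))
  have hord : ∀ l p, p.Prime → testK 9 275 [wk l] p = true → wk l ≠ oneK 9 275 →
      wk l ∈ twoGens ++ [wk c5W, wk c7W, wk e3W, wk f3W] →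
      p ∣ Nat.card (Subgroup.centralizer ({hB} : Set H)) := by
    intro l p hp ht hne hl
    haveI := Fact.mk hp
    have := orderOf_dvd_natCard (⟨⟨wp l, wp_mem l⟩, hcomm l hl⟩ : Subgroup.centralizer ({hB} : Set H))
    rwa [← orderOf_injective (Subgroup.centralizer ({hB} : Set H)).subtype Subtype.coe_injective,
      ← orderOf_injective H.subtype Subtype.coe_injective, Subgroup.subtype_apply,
      Subgroup.subtype_apply, orderOf_wp ht hne] at this
  have h5 := hord c5W 5 (by norm_num) a1 a2 (by simp)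
  have h7 := hord c7W 7 (by norm_num) a3 a4 (by simp)
  have h128 : 128 ∣ Nat.card (Subgroup.centralizer ({hB} : Set H)) := by
    rw [← card_S2, ← Nat.card_congr (Subgroup.subgroupOfEquivOfLe S2_le_H).toEquiv]
    refine Subgroup.card_dvd_of_le ?_
    intro y hy
    rw [Subgroup.mem_centralizer_singleton_iff]
    refine Subtype.ext ?_
    have hle : S2 ≤ Subgroup.centralizer ({pB} : Set P) := by
      refine (Subgroup.closure_le _).2 ?_
      intro z hz
      simp only [twoEl, Set.mem_ofPred_eq, List.mem_cons, List.not_mem_nil, or_false] at hz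
      rw [SetLike.mem_coe, Subgroup.mem_centralizer_singleton_iff]
      rcases hz with rfl | rfl | rfl <;>
        exact congrArg Subtype.val (Subgroup.mem_centralizer_singleton_iff.1 (hcomm _ (by simp [twoGens])))
    exact Subgroup.mem_centralizer_singleton_iff.1 (hle (Subgroup.mem_subgroupOf.1 hy))
  have h9 : 9 ∣ Nat.card (Subgroup.centralizer ({hB} : Set H)) := by
    haveI : Fact (Nat.Prime 3) := ⟨Nat.prime_three⟩
    let e : Subgroup.centralizer ({hB} : Set H) := ⟨⟨wp e3W, wp_mem _⟩, hcomm _ (by simp)⟩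
    let f : Subgroup.centralizer ({hB} : Set H) := ⟨⟨wp f3W, wp_mem _⟩, hcomm _ (by simp)⟩
    have hval : ∀ z : Subgroup.centralizer ({hB} : Set H), orderOf z = orderOf ((z : H) : P) := fun z => by
      rw [← orderOf_injective (Subgroup.centralizer ({hB} : Set H)).subtype Subtype.coe_injective,
        ← orderOf_injective H.subtype Subtype.coe_injective]
      rfl
    have he : orderOf e = 3 := by rw [hval]; exact orderOf_wp a5 a6
    have hf : orderOf f = 3 := by rw [hval]; exact orderOf_wp a7 a8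
    have hef : Commute e f := by
      have h1 := rep_comp hw (rep_wp e3W) (rep_wp f3W)
      rw [a11] at h1
      exact Subtype.ext (Subtype.ext (h1.inj (rep_comp hw (rep_wp f3W) (rep_wp e3W))))
    have hdisj : Disjoint (Subgroup.zpowers e) (Subgroup.zpowers f) := by
      rw [disjoint_iff, ← Subgroup.card_eq_one]
      have hd : Nat.card ↥(Subgroup.zpowers e ⊓ Subgroup.zpowers f) ∣ 3 := by
        rw [← he, ← Nat.card_zpowers]; exact Subgroup.card_dvd_of_le inf_le_left
      rcases (Nat.dvd_prime Nat.prime_three).1 hd with h | h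
      · exact h
      · exfalso
        have h1 := Subgroup.eq_of_le_of_card_ge (inf_le_left : Subgroup.zpowers e ⊓ Subgroup.zpowers f ≤ _)
          (by rw [h, Nat.card_zpowers, he])
        have h2 := Subgroup.eq_of_le_of_card_ge (inf_le_right : Subgroup.zpowers e ⊓ Subgroup.zpowers f ≤ _)
          (by rw [h, Nat.card_zpowers, hf])
        have hfe : f ∈ Subgroup.zpowers e := h1 ▸ h2.symm ▸ Subgroup.mem_zpowers f
        obtain ⟨k, hk⟩ := mem_powers_iff_mem_zpowers.2 hfe
        have hk' : e ^ (k % 3) = f := by rw [← he, pow_mod_orderOf]; exact hk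
        have hlt : k % 3 < 3 := Nat.mod_lt _ (by norm_num)
        interval_cases hk3 : k % 3
        · rw [pow_zero] at hk'
          rw [← hk', orderOf_one] at hf
          omega
        · rw [pow_one] at hk'
          refine a9 ?_
          rw [wk_eq_key, wk_eq_key, show wp f3W = wp e3W from
            (congrArg (fun z : Subgroup.centralizer ({hB} : Set H) => ((z : H) : P)) hk').symm]
        · refine a10 ?_
          rw [key_comp (rep_wp e3W) (rep_wp e3W), wk_eq_key,
            show wp f3W = wp e3W * wp e3W from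
              (congrArg (fun z : Subgroup.centralizer ({hB} : Set H) => ((z : H) : P)) hk').symm.trans (pow_two (wp e3W))]
    let φ := MonoidHom.noncommCoprod (Subgroup.zpowers e).subtype (Subgroup.zpowers f).subtype (by
      rintro ⟨u, hu⟩ ⟨v, hv⟩
      obtain ⟨i, rfl⟩ := Subgroup.mem_zpowers_iff.1 hu
      obtain ⟨j, rfl⟩ := Subgroup.mem_zpowers_iff.1 hv
      exact hef.zpow_zpow i j)
    have hinj : Function.Injective φ := by
      rw [MonoidHom.noncommCoprod_injective]
      exact ⟨Subtype.coe_injective, Subtype.coe_injective, by simpa [Subgroup.range_subtype] using hdisj⟩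
    have := Subgroup.card_dvd_of_injective φ hinj
    rwa [Nat.card_prod, Nat.card_zpowers, Nat.card_zpowers, he, hf] at this
  exact (show 40320 = Nat.lcm (Nat.lcm (Nat.lcm 128 9) 5) 7 by norm_num) ▸
    Nat.lcm_dvd (Nat.lcm_dvd (Nat.lcm_dvd h128 h9) h5) h7

theorem ncard_class : {y : H | IsConj hB y}.ncard ≤ 22275 := by
  classical
  let C := Subgroup.centralizer ({hB} : Set H)
  have hsub : {y : H | IsConj hB y} ⊆ (fun q : H ⧸ C => q.out * hB * q.out⁻¹) '' Set.univ := by
    intro y hy
    obtain ⟨g, rfl⟩ := isConj_iff.1 hy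
    refine ⟨(g : H ⧸ C), Set.mem_univ _, ?_⟩
    obtain ⟨⟨c, hc⟩, hout⟩ := QuotientGroup.mk_out_eq_mul C g
    show (g : H ⧸ C).out * hB * ((g : H ⧸ C).out)⁻¹ = _
    rw [hout]
    have hc' := Subgroup.mem_centralizer_singleton_iff.1 hc
    show g * c * hB * (g * c)⁻¹ = _
    rw [mul_assoc g c hB, hc']
    group
  refine (Set.ncard_le_ncard hsub (Set.toFinite _)).trans ((Set.ncard_image_le (Set.toFinite _)).trans ?_)
  rw [Set.ncard_univ, ← Subgroup.index_eq_card]
  have hm := C.card_mul_index
  obtain ⟨c, hc⟩ := cent_dvd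
  rw [show Nat.card C = 40320 * c from hc, H_spec.2] at hm
  rcases c with _ | c
  · omega
  · nlinarith

/-- The projection of a permutation. -/
noncomputable def projP (g : P) : ℕ :=
  pk 9 (projPts.map fun x => if h : x < 275 then ((g ⟨x, h⟩ : Fin 275) : ℕ) else 0)

theorem rep_aPows {i : ℕ} (hi : i < 11) : Rep 9 275 (aPows.getD i 0) (pA ^ i) := by
  have h := List.all_eq_true.1 a_pows i (List.mem_range.2 hi)
  rw [beq_iff_eq.1 h]
  have h' := rep_wp (List.replicate i false)
  rwa [show wp (List.replicate i false) = pA ^ i by simp [wp, wordP]] at h'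

theorem pA_pow_inv {i : ℕ} (hi : i < 11) : pA ^ ((11 - i) % 11) = (pA ^ i)⁻¹ := by
  refine eq_inv_of_mul_eq_one_left ?_
  rw [← orderOf_A, pow_mod_orderOf, orderOf_A, ← pow_add, Nat.sub_add_cancel hi.le]
  exact A_pow

theorem exists_repEl {n : ℕ} (hn : n < 2025) :
    ∃ r : H, Rep 9 275 (repKey n) (r : P) ∧ IsConj hB r := by
  have hhas := allF_iff.1 reps_has n hn
  obtain ⟨v, hv⟩ := Option.isSome_iff_exists.1 hhas
  have h := Tree.every_sound reps_ok (Tree.mem_of_get hv)
  simp only [repNodeK, Bool.and_eq_true, Nat.blt_eq, beq_iff_eq] at h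
  obtain ⟨-, hi, hj, hk⟩ := h
  have hkey : repKey n = v.1 := by rw [repKey, hv]; rfl
  rw [List.getD_eq_getElem _ _ hi, List.getD_eq_getElem _ _ hj] at hk
  have hu := List.all_eq_true.1 tab_valid.1 _ (List.getElem_mem hi)
  have hv' := List.all_eq_true.1 tab_valid.2 _ (List.getElem_mem hj)
  simp only [Bool.and_eq_true, beq_iff_eq] at hv'
  have inv : ∀ (l : List Bool) (k : ℕ), validK 9 275 (wk l) k = true → Rep 9 275 k (wp l)⁻¹ := by
    intro l k hval
    have h := rep_permOf_inv hval
    rwa [(rep_permOf hval).inj (rep_wp l)] at h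
  generalize uTab[v.2.1] = u at hk hu
  generalize vTab[v.2.2] = t at hk hv'
  let g : H := ⟨wp u.1, wp_mem _⟩ * ⟨wp t.1, wp_mem _⟩
  refine ⟨g * hB * g⁻¹, ?_, isConj_iff.2 ⟨g, rfl⟩⟩
  rw [hkey, ← hk, ← hv'.2]
  have h1 := rep_conj hw (rep_wp t.1) (inv _ _ hv'.1) rep_B
  have h2 := rep_conj hw (rep_wp u.1) (inv _ _ hu) h1
  convert h2 using 1
  simp [g, hB, mul_assoc]

/-- A representative. -/
noncomputable def repEl (n : ℕ) : H := if h : n < 2025 then (exists_repEl h).choose else 1

theorem repEl_spec {n : ℕ} (hn : n < 2025) : Rep 9 275 (repKey n) (repEl n : P) ∧ IsConj hB (repEl n) := by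
  rw [repEl, dif_pos hn]
  exact (exists_repEl hn).choose_spec

theorem proj_spec {i n : ℕ} (hi : i < 11) (hn : n < 2025) :
    proj i n = projP ((hA ^ i * repEl n * (hA ^ i)⁻¹ : H) : P) := by
  have happ := app_eq (List.Forall₂.cons (rep_aPows hi) (List.Forall₂.cons (repEl_spec hn).1
    (List.Forall₂.cons (pA_pow_inv hi ▸ rep_aPows (Nat.mod_lt _ (by norm_num) : (11 - i) % 11 < 11))
      List.Forall₂.nil)))
  rw [proj, projP]
  congr 1
  refine List.map_congr_left fun x hx => ?_
  have hx' : x < 275 := by simpa [Nat.blt_eq] using List.all_eq_true.1 proj_pts x hx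
  rw [dif_pos hx']
  refine (happ ⟨x, hx'⟩).trans ?_
  simp [hA, mul_assoc]

theorem listed {y : H} (hy : IsConj hB y) :
    ∃ i < 11, ∃ n < 2025, y = hA ^ i * repEl n * (hA ^ i)⁻¹ := by
  classical
  let f : ℕ × ℕ → H := fun p => hA ^ p.1 * repEl p.2 * (hA ^ p.1)⁻¹
  let D : Finset (ℕ × ℕ) := Finset.range 11 ×ˢ Finset.range 2025
  have hinj : Set.InjOn f ↑D := by
    rintro ⟨i, n⟩ hp ⟨i', n'⟩ hp' e
    simp only [D, Finset.coe_product, Set.mem_prod, Finset.coe_range, Set.mem_Iio] at hp hp'
    have e' : proj i n = proj i' n' := by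
      rw [proj_spec hp.1 hp.2, proj_spec hp'.1 hp'.2]
      exact congrArg (fun z : H => projP (z : P)) e
    have look : ∀ i n, i < 11 → n < 2025 → ∃ d, projTree.get (proj i n) = some (i, n, d) := by
      intro i n hi hn
      obtain ⟨p, q, d, hc⟩ := Tree.sound_of_has proj_ok (allF_iff.1 reps_has n hn)
      have h := allF_iff.1 hc i hi
      cases hget : projTree.get (proj i n) with
      | none => simp [hget] at h
      | some v =>
        simp only [hget, Bool.and_eq_true, Nat.beq_eq] at h
        exact ⟨v.2.2, by obtain ⟨rfl, rfl⟩ := h; rfl⟩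
    obtain ⟨d, hd⟩ := look i n hp.1 hp.2
    obtain ⟨d', hd'⟩ := look i' n' hp'.1 hp'.2
    rw [e', hd', Option.some.injEq, Prod.mk.injEq, Prod.mk.injEq] at hd
    rw [hd.1, hd.2.1]
  have hsub : f '' ↑D ⊆ {y : H | IsConj hB y} := by
    rintro _ ⟨⟨i, n⟩, hp, rfl⟩
    simp only [D, Finset.coe_product, Set.mem_prod, Finset.coe_range, Set.mem_Iio] at hp
    exact (repEl_spec hp.2).2.trans (isConj_iff.2 ⟨hA ^ i, rfl⟩)
  have heq := Set.eq_of_subset_of_ncard_le hsub (by
    rw [Set.ncard_image_of_injOn hinj, Set.ncard_coe_finset, Finset.card_product, Finset.card_range,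
      Finset.card_range]
    exact ncard_class) (Set.toFinite _)
  have hy' : y ∈ f '' ↑D := heq ▸ hy
  obtain ⟨⟨i, n⟩, hp, rfl⟩ := hy'
  simp only [D, Finset.coe_product, Set.mem_prod, Finset.coe_range, Set.mem_Iio] at hp
  exact ⟨i, hp.1, n, hp.2, rfl⟩

end CfsgLib.Sporadic.OutCert.McL
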