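import Cfsg.Agent.Lib.Sporadic.OutCert.McL.CheckBasic
import Cfsg.Agent.Lib.Sporadic.OutCert.McL.CheckRun
import Cfsg.Agent.Lib.SmallGroups.LeechMcL
import Cfsg.Prelude.Def_Spor_Conway

/-!
The McLaughlin group acting on the 275 vectors, with the two permutations of the data in its image.
-/

set_option autoImplicit false
set_option maxRecDepth 10000

namespace CfsgLib.Sporadic.OutCert.McL

open Cfsg CfsgLib.SmallGroups CfsgLib.SmallGroups.LeechOrbit CfsgLib.SmallGroups.LeechLists
  CfsgLib.SmallGroups.LeechVectorStab CfsgLib.SmallGroups.LeechPairs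

attribute [local irreducible] lk pkF allF compK ka kai kb kt gTab vKeys vN LeechMcLData.tree275

/-- Permutations of the points. -/
abbrev P : Type := Equiv.Perm (Fin 275)

theorem hw : 275 ≤ 2 ^ 9 := by norm_num

theorem nonempty_iso_G2 : Nonempty (Cfsg.Spor.McL ≃* LeechTwoPoint.G2 vV) := by
  have hU : Spor.leechU = vV := Subtype.ext (funext fun q => by
    show Spor.vecU q = _
    rw [coe_vV]; revert q; decide +kernel)
  have hV : Spor.leechV = -v48 := Subtype.ext (funext fun q => by
    show Spor.vecV q = -((v48 : leechLattice) : GolayPt → ℤ) q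
    rw [coe_v48]; revert q; decide +kernel)
  have key : ∀ g : Equiv.Perm leechLattice, g ∈ Co0 → (g Spor.leechV = Spor.leechV ↔ g v48 = v48) := by
    intro g hg
    rw [hV]
    have h := map_neg (AddMonoidHom.mk' g hg.1) v48
    simp only [AddMonoidHom.mk'_apply] at h
    rw [h, neg_inj]
  have mem : ∀ g : Equiv.Perm leechLattice, g ∈ Spor.McL ↔
      g ∈ Co0 ∧ g v48 = v48 ∧ g vV = vV := by
    intro g
    simp only [Spor.McL, Spor.Co3, Subgroup.mem_inf, MulAction.mem_stabilizer_iff, Equiv.Perm.smul_def, hU]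
    exact ⟨fun ⟨⟨h1, h2⟩, h3⟩ => ⟨h1, (key g h1).1 h2, h3⟩, fun ⟨h1, h2, h3⟩ => ⟨⟨h1, (key g h1).2 h2⟩, h3⟩⟩
  exact ⟨{
    toFun := fun g => ⟨⟨g.1, ((mem g.1).1 g.2).1⟩, ((mem g.1).1 g.2).2.1, ((mem g.1).1 g.2).2.2⟩
    invFun := fun g => ⟨g.1.1, (mem _).2 ⟨g.1.2, g.2.1, g.2.2⟩⟩
    left_inv := fun _ => rfl
    right_inv := fun _ => rfl
    map_mul' := fun _ _ => rfl }⟩

/-- The vectors. -/
abbrev W : Type := {x : leechLattice // x ∈ LeechMcL.pts v48 vV}

theorem card_W : Nat.card W = 275 := by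
  rw [show Nat.card W = (LeechMcL.pts v48 vV).ncard from Nat.card_coe_set_eq _,
    LeechMcL.ncard_pts v48 vV norm_v48 vV_mem]

instance finite_W : Finite W := Nat.finite_of_card_ne_zero (by rw [card_W]; norm_num)

theorem key_mem (i : Fin 275) : lk 100 vN i ∈ LeechMcLData.tree275.keys := by
  have h : lk 100 vN i ∈ vKeys := by
    rw [← v_at]
    exact List.mem_map.2 ⟨i, List.mem_range.2 i.2, rfl⟩
  exact VTree.find_mem _ _ (List.all_eq_true.1 v_keys.2.2 _ h)

/-- The vector with a given index. -/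
noncomputable def vecAt (i : Fin 275) : W :=
  ⟨⟨Pk (lk 100 vN i), mem_lattice_keys LeechMcLData.cert275 LeechMcL.kX_mem (key_mem i)⟩, by
    rw [LeechMcL.pts_base]
    exact ⟨_, key_mem i, rfl⟩⟩

theorem vecAt_injective : Function.Injective vecAt := by
  intro i j e
  have h1 : Pk (lk 100 vN i) = Pk (lk 100 vN j) := congrArg (fun x : W => ((x : leechLattice) : GolayPt → ℤ)) e
  have h2 := Pk_inj LeechMcLData.canon275 (key_mem i) (key_mem j) h1
  have hnd : ((List.range 275).map fun i => lk 100 vN i).Nodup := by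
    rw [v_at]
    exact ((List.isChain_iff_pairwise).1 v_keys.1).imp fun h => ne_of_lt h
  exact Fin.ext (List.inj_on_of_nodup_map hnd (List.mem_range.2 i.2) (List.mem_range.2 j.2) h2)

/-- The numbering of the vectors. -/
noncomputable def vecEquiv : Fin 275 ≃ W :=
  Equiv.ofBijective vecAt (vecAt_injective.bijective_of_nat_card_le (by rw [card_W, Nat.card_fin]))

theorem smul_mem (g : LeechTwoPoint.G2 vV) (x : W) : (g : Co0) • (x : leechLattice) ∈ LeechMcL.pts v48 vV := by
  have h := (LeechMcL.smul_mem_pts (g : Co0) v48 vV x).2 x.2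
  rwa [show (g : Co0) • v48 = v48 from g.2.1, show (g : Co0) • vV = vV from g.2.2] at h

/-- The action on the vectors. -/
noncomputable def actHom : LeechTwoPoint.G2 vV →* Equiv.Perm W :=
  MonoidHom.mk' (fun g =>
    { toFun := fun x => ⟨(g : Co0) • (x : leechLattice), smul_mem g x⟩
      invFun := fun x => ⟨((g⁻¹ : LeechTwoPoint.G2 vV) : Co0) • (x : leechLattice), smul_mem g⁻¹ x⟩
      left_inv := fun x => Subtype.ext (inv_smul_smul (g : Co0) (x : leechLattice))
      right_inv := fun x => Subtype.ext (smul_inv_smul (g : Co0) (x : leechLattice)) })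
    fun g h => Equiv.ext fun x => Subtype.ext (mul_smul (g : Co0) (h : Co0) (x : leechLattice))

/-- The action on the indices. -/
noncomputable def psi : LeechTwoPoint.G2 vV →* P :=
  vecEquiv.symm.permCongrHom.toMonoidHom.comp actHom

theorem psi_spec {g : LeechTwoPoint.G2 vV} {i j : Fin 275}
    (h : (g : Co0) • (vecAt i : leechLattice) = (vecAt j : leechLattice)) : psi g i = j := by
  show vecEquiv.symm (actHom g (vecEquiv i)) = j
  rw [Equiv.symm_apply_eq]
  exact Subtype.ext h

theorem psi_injective : Function.Injective psi := by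
  have hsimple := LeechMcL.isMcL_base.1
  rw [← MonoidHom.ker_eq_bot_iff]
  refine (psi.normal_ker).eq_bot_or_eq_top.resolve_right fun htop => ?_
  obtain ⟨g, g1, g2, g3⟩ := LeechMcL.transitive_pts v48 vV norm_v48 vV_mem (vecAt 0) (vecAt 1)
    (vecAt 0).2 (vecAt 1).2
  have h1 : psi ⟨g, g1, g2⟩ = 1 := MonoidHom.mem_ker.1 (htop ▸ Subgroup.mem_top _)
  have h2 := psi_spec (g := ⟨g, g1, g2⟩) g3
  rw [h1] at h2
  exact absurd h2 (by decide)

theorem gTab_mem_range {m : ℕ} (hm : m < 12) :
    ∃ g ∈ psi.range, Rep 9 275 (gTab.getD m (0, 0)).1 g := by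
  have hok : gensOK LeechMcLData.gens2 [67343938137124686954512357785, 62062060636173731114942761100] = true := by
    have h := LeechMcLData.cert275
    simp only [cert, Bool.and_eq_true] at h
    exact h.1.1
  have hlen : m < LeechMcLData.gens2.length := by rw [g_valid.2.2]; exact hm
  have hw' := List.all_eq_true.1 hok _ (List.getElem_mem hlen)
  simp only [Bool.and_eq_true, List.all_eq_true, beq_iff_eq] at hw'
  obtain ⟨g, hg⟩ := run_sound (List.all_eq_true.2 hw'.1)
  have g1 : g • v48 = v48 := Subtype.ext ((hg kU kU (hw'.2 _ (by simp [kU])) v48 coe_v48).trans coe_v48.symm)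
  have g2 : g • vV = vV := Subtype.ext ((hg kV kV (hw'.2 _ (by simp [kV])) vV coe_vV).trans coe_vV.symm)
  refine ⟨psi ⟨g, g1, g2⟩, ⟨_, rfl⟩, fun i => ?_⟩
  have hgt : m < gTab.length := by rw [g_valid.2.1]; exact hm
  have hv := List.all_eq_true.1 g_valid.1 _ (List.getElem_mem hgt)
  rw [List.getD_eq_getElem _ _ hgt]
  have hlt := (valid_at hv i).1
  have hr := g_run m hm
  simp only [runK, allF_iff, beq_iff_eq] at hr
  have h1 := hr i i.2
  rw [List.getD_eq_getElem _ _ hlen, List.getD_eq_getElem _ _ hgt] at h1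
  rw [psi_spec (j := ⟨_, hlt⟩) (Subtype.ext (hg _ _ h1 _ rfl))]

end CfsgLib.Sporadic.OutCert.McL
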