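import Cfsg.Agent.Lib.Sporadic.OutCert.McL.Classes
import Cfsg.Agent.Lib.Sporadic.OutCert.McL.CheckSurv

/-!
The outer automorphism group of the McLaughlin group has order 2.
-/

set_option autoImplicit false
set_option maxRecDepth 10000

namespace CfsgLib.Sporadic.OutCert.McL

open Cfsg

theorem fixed_points : (List.range 275).all (fun i =>
    i == 0 || !(lk 9 (wk e5W) i == i) || !(lk 9 (wk e7W) i == i)) = true := by decide +kernel

theorem T_moves : compK 9 275 kt (oneK 9 275) ≠ oneK 9 275 := by decide +kernel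

theorem nB_lt : nB < 2025 := by decide +kernel

theorem nC_lt : nC < 2025 := by decide +kernel

attribute [local irreducible] lk pkF allF compK conjK ka kai kb kt gTab twoTree repTree projTree aPows uTab vTab projPts tests

/-- The product of a test. -/
noncomputable def testProd {G : Type*} [Group G] (a x : G) (es : List ℕ) : G :=
  (es.flatMap fun e => [a ^ e, x]).prod

theorem test_eq {m k : ℕ} {x : H} (hk : Rep 9 275 k (x : P)) (t : List ℕ × ℕ) :
    testK 9 275 (testWord m k t.1) t.2 = true ↔ testProd (hA ^ m) x t.1 ^ t.2 = 1 := by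
  have hrep : ∀ es : List ℕ, List.Forall₂ (Rep 9 275) (testWord m k es)
      (es.flatMap fun e => [pA ^ (e * m % 11), (x : P)]) := by
    intro es
    induction es with
    | nil => exact List.Forall₂.nil
    | cons e es ih => exact List.Forall₂.cons (rep_aPows (Nat.mod_lt _ (by norm_num))) (List.Forall₂.cons hk ih)
  rw [test_iff (hrep t.1)]
  have key : ((testProd (hA ^ m) x t.1 : H) : P) =
      (t.1.flatMap fun e => [pA ^ (e * m % 11), (x : P)]).prod := by
    rw [testProd, Submonoid.coe_list_prod H.toSubmonoid, List.map_flatMap]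
    congr 1
    refine List.flatMap_congr fun e _ => ?_
    simp only [List.map_cons, List.map_nil, Subgroup.coe_pow, hA]
    rw [← pow_mul, mul_comm m e, ← orderOf_A, pow_mod_orderOf]
  rw [← key]
  exact_mod_cast Iff.rfl

theorem tests_base : ∀ t ∈ tests, testProd hA hB t.1 ^ t.2 = 1 := by
  intro t ht
  have h := (test_eq (m := 1) (x := hB) rep_B t).1 (List.all_eq_true.1 b_tests t ht)
  rwa [pow_one] at h

theorem testProd_map (α : MulAut H) (x : H) (es : List ℕ) :
    α (testProd hA x es) = testProd (α hA) (α x) es := by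
  rw [testProd, map_list_prod, List.map_flatMap, testProd]
  congr 1
  refine List.flatMap_congr fun e _ => ?_
  simp

/-- The candidate. -/
noncomputable def hC : H := repEl nC

theorem repEl_nB : repEl nB = hB := by
  have h := (repEl_spec nB_lt).1
  rw [surv_index.1] at h
  exact Subtype.ext (h.inj rep_B)

theorem survivor (α : MulAut H) {m : ℕ} (hm : α hA = hA ^ m) :
    ∃ i n : ℕ, α hB = hA ^ i * repEl n * (hA ^ i)⁻¹ ∧
      ∀ t ∈ tests, testK 9 275 (testWord m (repKey n) t.1) t.2 = true ∧ n < 2025 := by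
  have h2 : α hB * α hB = 1 := by rw [← map_mul, hB_sq, map_one]
  have h1 : α hB ≠ 1 := by
    rw [Ne, EmbeddingLike.map_eq_one_iff]
    exact hB_ne_one
  obtain ⟨i, -, n, hn, hy⟩ := listed (involution_conj h2 h1)
  refine ⟨i, n, hy, fun t ht => ⟨?_, hn⟩⟩
  rw [test_eq (repEl_spec hn).1 t]
  have h := congrArg (MulAut.conj ((hA ^ i)⁻¹) * α) (tests_base t ht)
  rw [map_pow, map_one, testProd_map] at h
  convert h using 3
  · rw [MulAut.mul_apply, hm, MulAut.conj_apply, inv_inv, mul_assoc,
      ← ((Commute.refl hA).pow_pow i m).eq, inv_mul_cancel_left]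
  · rw [MulAut.mul_apply, hy, MulAut.conj_apply, inv_inv]
    group

theorem surv_at {n : ℕ} (hn : n < 2025) : survK n (repKey n) = true := by
  obtain ⟨v, hv⟩ := Option.isSome_iff_exists.1 (allF_iff.1 reps_has n hn)
  rw [repKey, hv]
  exact Tree.every_sound surv_ok (Tree.mem_of_get hv)

theorem survivor_one (α : MulAut H) (hm : α hA = hA) :
    ∃ i : ℕ, α hB = hA ^ i * hB * (hA ^ i)⁻¹ ∨ α hB = hA ^ i * hC * (hA ^ i)⁻¹ := by
  obtain ⟨i, n, hy, hall⟩ := survivor α (m := 1) (by rw [hm, pow_one])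
  refine ⟨i, ?_⟩
  by_cases hn : n < 2025
  · have h := surv_at hn
    simp only [survK, Bool.and_eq_true, Bool.or_eq_true, List.any_eq_true, Bool.not_eq_true', beq_iff_eq] at h
    rcases h.1 with ⟨t, ht, hf⟩ | h' | h'
    · rw [(hall t ht).1] at hf
      exact absurd hf (by simp)
    · left; rw [hy, h', repEl_nB]
    · right; rw [hy, h']; rfl
  · exfalso
    rw [repEl, dif_neg hn, mul_one, mul_inv_cancel, EmbeddingLike.map_eq_one_iff] at hy
    exact hB_ne_one hy

theorem survivor_two (α : MulAut H) : α hA ≠ hA ^ 2 := by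
  intro hm
  obtain ⟨i, n, hy, hall⟩ := survivor α hm
  by_cases hn : n < 2025
  · have h := surv_at hn
    simp only [survK, Bool.and_eq_true, List.any_eq_true, Bool.not_eq_true'] at h
    obtain ⟨t, ht, hf⟩ := h.2
    rw [(hall t ht).1] at hf
    exact absurd hf (by simp)
  · rw [repEl, dif_neg hn, mul_one, mul_inv_cancel, EmbeddingLike.map_eq_one_iff] at hy
    exact hB_ne_one hy

theorem norm_pow (j : ℕ) (h0 : 0 < j) (h11 : j < 11) :
    ∃ g : H, g * hA ^ j * g⁻¹ = hA ∨ g * hA ^ j * g⁻¹ = hA ^ 2 := by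
  have h := beq_iff_eq.1 (List.all_eq_true.1 norm_tab (j - 1) (List.mem_range.2 (by omega)))
  rw [Nat.sub_add_cancel h0] at h
  refine ⟨⟨wp (normTab.getD (j - 1) ([], 0)).1, wp_mem _⟩, ?_⟩
  have hL := rep_comp hw (rep_wp (normTab.getD (j - 1) ([], 0)).1) (rep_aPows h11)
  rw [h] at hL
  by_cases hflag : ((normTab.getD (j - 1) ([], 0)).2 == 1) = true
  · left
    rw [if_pos hflag] at hL
    have he := hL.inj (rep_comp hw rep_A (rep_wp _))
    refine Subtype.ext ?_
    show wp _ * pA ^ j * (wp _)⁻¹ = pA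
    rw [he, mul_inv_cancel_right]
  · right
    rw [if_neg hflag] at hL
    have he := hL.inj (rep_comp hw (rep_aPows (i := 2) (by norm_num)) (rep_wp _))
    refine Subtype.ext ?_
    show wp _ * pA ^ j * (wp _)⁻¹ = pA ^ 2
    rw [he, mul_inv_cancel_right]

theorem T_A : pT * pA = pA * pT := by
  have h := rep_comp hw rep_T rep_A
  rw [outer.1] at h
  exact h.inj (rep_comp hw rep_A rep_T)

theorem T_B : pT * pB = wp tbW * pT := by
  have h := rep_comp hw rep_T rep_B
  rw [outer.2.1] at h
  exact h.inj (rep_comp hw (rep_wp _) rep_T)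

theorem T_inv : pT⁻¹ = pT := rep_T_inv.inj rep_T

theorem T_normalizes {g : P} (hg : g ∈ H) : pT * g * pT⁻¹ ∈ H := by
  induction hg using Subgroup.closure_induction with
  | mem x hx =>
    rcases hx with rfl | rfl
    · rw [T_A, mul_inv_cancel_right]; exact A_mem
    · rw [T_B, mul_inv_cancel_right]; exact wp_mem _
  | one => rw [mul_one, mul_inv_cancel]; exact one_mem _
  | mul x y _ _ hx hy =>
    rw [show pT * (x * y) * pT⁻¹ = pT * x * pT⁻¹ * (pT * y * pT⁻¹) by group]
    exact mul_mem hx hy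
  | inv x _ hx =>
    rw [show pT * x⁻¹ * pT⁻¹ = (pT * x * pT⁻¹)⁻¹ by group]
    exact inv_mem hx

theorem countP_range (n : ℕ) (p : ℕ → Bool) :
    (Finset.univ.filter fun k : Fin n => p k = true).card = (List.range n).countP p := by
  rw [← List.map_coe_finRange_eq_range, List.countP_map, List.countP_eq_length_filter]
  rw [← List.toFinset_card_of_nodup ((List.nodup_finRange n).filter _)]
  congr 1
  ext k
  simp

theorem count_fixed {k : ℕ} {g : P} (h : Rep 9 275 k g) :
    (List.range 275).countP (fun i => lk 9 k i == i) = (Finset.univ.filter fun i => g i = i).card := by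
  rw [← countP_range]
  congr 1
  refine Finset.filter_congr fun i _ => ?_
  rw [beq_iff_eq, h i, Fin.ext_iff]

theorem T_not_mem : pT ∉ H := by
  intro hT
  have h2 : (⟨pT, hT⟩ : H) * ⟨pT, hT⟩ = 1 :=
    Subtype.ext ((congrArg (pT * ·) T_inv.symm).trans (mul_inv_cancel pT))
  have h1 : (⟨pT, hT⟩ : H) ≠ 1 := by
    intro e
    have e' : pT = 1 := congrArg Subtype.val e
    have hk := key_comp rep_T (rep_one (w := 9) hw)
    rw [mul_one, e', ← key_one] at hk
    exact T_moves hk
  obtain ⟨c, hc⟩ := isConj_iff.1 (involution_conj h2 h1)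
  have hc' : (c : P) * pB * (c : P)⁻¹ = pT := congrArg Subtype.val hc
  refine outer.2.2.2 ?_
  rw [count_fixed rep_T, count_fixed rep_B, ← hc']
  refine (Finset.card_equiv (c : P) fun i => ?_).symm
  refine Finset.mem_filter.trans (Iff.trans ?_ Finset.mem_filter.symm)
  simp only [Finset.mem_univ, true_and, Equiv.Perm.mul_apply, Equiv.Perm.inv_def, Equiv.symm_apply_apply]
  exact ((c : P).injective.eq_iff).symm

theorem exists_outer : ∃ β : MulAut H, β ∉ Inn H := by
  refine ⟨{
    toFun := fun x => ⟨pT * (x : P) * pT⁻¹, T_normalizes x.2⟩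
    invFun := fun x => ⟨pT * (x : P) * pT⁻¹, T_normalizes x.2⟩
    left_inv := fun x => Subtype.ext (by simp only [T_inv]; rw [← mul_assoc, ← mul_assoc, show pT * pT = 1 by nth_rewrite 2 [← T_inv]; exact mul_inv_cancel pT, one_mul, mul_assoc, show pT * pT = 1 by nth_rewrite 2 [← T_inv]; exact mul_inv_cancel pT, mul_one])
    right_inv := fun x => Subtype.ext (by simp only [T_inv]; rw [← mul_assoc, ← mul_assoc, show pT * pT = 1 by nth_rewrite 2 [← T_inv]; exact mul_inv_cancel pT, one_mul, mul_assoc, show pT * pT = 1 by nth_rewrite 2 [← T_inv]; exact mul_inv_cancel pT, mul_one])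
    map_mul' := fun x y => Subtype.ext (by simp [mul_assoc]) }, ?_⟩
  rintro ⟨h, hh⟩
  have hcomm : ∀ g ∈ H, (h : P)⁻¹ * pT * g = g * ((h : P)⁻¹ * pT) := by
    intro g hg
    have e : (h : P) * g * (h : P)⁻¹ = pT * g * pT⁻¹ :=
      congrArg Subtype.val (DFunLike.congr_fun hh (⟨g, hg⟩ : H))
    calc (h : P)⁻¹ * pT * g = (h : P)⁻¹ * (pT * g * pT⁻¹) * pT := by group
      _ = g * ((h : P)⁻¹ * pT) := by rw [← e]; group
  have hfix : ∀ y : Fin 275, (∀ g ∈ H, g 0 = 0 → g y = y) → y = 0 := by
    intro y hy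
    have h0 := hy _ (wp_mem e5W) (Fin.ext ((rep_wp e5W 0).symm.trans elems.2.2.2.2.2.1))
    have h1 := hy _ (wp_mem e7W) (Fin.ext ((rep_wp e7W 0).symm.trans elems.2.2.2.2.2.2.2.2))
    have hc := List.all_eq_true.1 fixed_points y (List.mem_range.2 y.2)
    rw [rep_wp e5W y, rep_wp e7W y, h0, h1] at hc
    simp only [BEq.rfl, Bool.not_true, Bool.or_false, beq_iff_eq] at hc
    exact Fin.ext hc
  have hone := perm_eq_one H 0 reach hfix _ hcomm
  rw [inv_mul_eq_one] at hone
  exact T_not_mem (hone ▸ h.2)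

theorem card_out : Nat.card (Out Cfsg.Spor.McL) = 2 := by
  obtain ⟨e⟩ := H_spec.1
  rw [card_out_congr e]
  haveI : Fact (Nat.Prime 11) := ⟨by norm_num⟩
  refine le_antisymm (card_out_le_two_of_fixed (p := 11) (by rw [H_spec.2]; norm_num) orderOf_hA closure_gen
    (hA ^ 2) hC norm_pow survivor_one survivor_two) ?_
  obtain ⟨β, hβ⟩ := exists_outer
  have : Nontrivial (Out H) :=
    ⟨⟨QuotientGroup.mk β, 1, fun e => hβ ((QuotientGroup.eq_one_iff β).1 e)⟩⟩
  exact Finite.one_lt_card

end CfsgLib.Sporadic.OutCert.McL
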